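import Mathlib.RingTheory.Etale.Weakly
import Mathlib.RingTheory.Ideal.Pure
import Mathlib.RingTheory.Flat.EquationalCriterion
import Mathlib.LinearAlgebra.TensorProduct.Vanishing
import Mathlib.LinearAlgebra.TensorProduct.Finiteness

/-!
# Weakly etale algebras: the diagonal is pure, absolute flatness
-/

universe u v

open TensorProduct

namespace Groth.Agent.WEtLib

noncomputable section

variable {A B : Type u} [CommRing A] [CommRing B] [Algebra A B]

variable (A B) in
/-- the diagonal ideal -/
abbrev diag : Ideal (B ⊗[A] B) := RingHom.ker (Algebra.TensorProduct.lmul' A (S := B))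

theorem diag_pure [Algebra.WeaklyEtale A B] : (diag A B).Pure := by
  let μ := Algebra.TensorProduct.lmul' A (S := B)
  letI : Algebra (B ⊗[A] B) B := μ.toRingHom.toAlgebra
  haveI : Module.Flat (B ⊗[A] B) B := Algebra.WeaklyEtale.flat_lmul' A B
  let e := Ideal.quotientKerAlgEquivOfSurjective (f := Algebra.ofId (B ⊗[A] B) B)
    (fun b => ⟨b ⊗ₜ 1, show μ (b ⊗ₜ 1) = b by simp [μ]⟩)
  exact Module.Flat.of_linearEquiv e.toLinearEquiv

theorem exists_killer [hJ : (diag A B).Pure] (s : Finset (B ⊗[A] B)) (hs : ∀ z ∈ s, z ∈ diag A B) :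
    ∃ e : B ⊗[A] B, Algebra.TensorProduct.lmul' A e = 1 ∧ ∀ z ∈ s, z * e = 0 := by
  classical
  induction s using Finset.induction_on with
  | empty => exact ⟨1, map_one _, by simp⟩
  | insert z s _ ih =>
    obtain ⟨e, he, hes⟩ := ih fun y hy => hs y (Finset.mem_insert_of_mem hy)
    obtain ⟨y, hy, hzy⟩ := Ideal.exists_eq_mul_of_pure (hs z (Finset.mem_insert_self _ _))
    refine ⟨e * (1 - y), by rw [map_mul, map_sub, map_one, he, RingHom.mem_ker.1 hy, sub_zero, one_mul], fun w hw => ?_⟩
    rcases Finset.mem_insert.1 hw with rfl | hw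
    · rw [mul_left_comm, mul_sub, mul_one, ← hzy, sub_self, mul_zero]
    · rw [← mul_assoc, hes w hw, zero_mul]

/-- a partition of the identity killing finitely many diagonal elements -/
theorem exists_splitting [Algebra.WeaklyEtale A B] (s : Finset B) :
    ∃ (k : ℕ) (u w : Fin k → B), ∑ i, u i * w i = 1 ∧
      ∀ b ∈ s, ∑ i, (b * u i) ⊗ₜ[A] w i = ∑ i, u i ⊗ₜ[A] (b * w i) := by
  classical
  haveI := diag_pure (A := A) (B := B)
  obtain ⟨e, he, hes⟩ := exists_killer (A := A) (B := B) (s.image fun b => b ⊗ₜ[A] 1 - 1 ⊗ₜ[A] b) fun z hz => by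
    obtain ⟨b, _, rfl⟩ := Finset.mem_image.1 hz
    simp [RingHom.mem_ker]
  obtain ⟨k, u, w, rfl⟩ := TensorProduct.exists_sum_tmul_eq e
  refine ⟨k, u, w, by simpa [map_sum] using he, fun b hb => ?_⟩
  have h := hes _ (Finset.mem_image_of_mem _ hb)
  rw [sub_mul, sub_eq_zero, Finset.mul_sum, Finset.mul_sum] at h
  simpa [Algebra.TensorProduct.tmul_mul_tmul] using h

/-- flatness over the base gives flatness over a weakly etale algebra -/
theorem flat_of_flat [Algebra.WeaklyEtale A B] (N : Type u) [AddCommGroup N] [Module A N] [Module B N]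
    [IsScalarTower A B N] [Module.Flat A N] : Module.Flat B N := by
  classical
  refine Module.Flat.of_forall_isTrivialRelation fun {l f x} hfx => ?_
  obtain ⟨k, u, w, huw, hs⟩ := exists_splitting (A := A) (Finset.univ.image f)
  -- the relation vanishes in `B ⊗[A] N`
  have h0 : ∑ p : Fin l × Fin k, (f p.1 * u p.2) ⊗ₜ[A] (w p.2 • x p.1) = (0 : B ⊗[A] N) := by
    let ψ : ∀ n : N, B ⊗[A] B →ₗ[A] B ⊗[A] N := fun n =>
      TensorProduct.map LinearMap.id ((LinearMap.toSpanSingleton B N n).restrictScalars A)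
    calc ∑ p : Fin l × Fin k, (f p.1 * u p.2) ⊗ₜ[A] (w p.2 • x p.1)
        = ∑ i, ψ (x i) (∑ j, (f i * u j) ⊗ₜ[A] w j) := by
          simp [ψ, Fintype.sum_prod_type]
      _ = ∑ i, ψ (x i) (∑ j, u j ⊗ₜ[A] (f i * w j)) := by
          refine Finset.sum_congr rfl fun i _ => ?_
          rw [hs (f i) (Finset.mem_image_of_mem _ (Finset.mem_univ i))]
      _ = ∑ j, u j ⊗ₜ[A] (w j • ∑ i, f i • x i) := by
          simp only [ψ, map_sum, TensorProduct.map_tmul, LinearMap.id_apply, LinearMap.coe_restrictScalars,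
            LinearMap.toSpanSingleton_apply, Finset.smul_sum, TensorProduct.tmul_sum]
          rw [Finset.sum_comm]
          refine Finset.sum_congr rfl fun j _ => Finset.sum_congr rfl fun i _ => ?_
          rw [smul_smul, mul_comm (w j)]
      _ = 0 := by simp [hfx]
  obtain ⟨q, a, y, hay, ha0⟩ := vanishesTrivially_of_sum_tmul_eq_zero_of_rTensor_injective A
    (Module.Flat.rTensor_preserves_injective_linearMap _ Subtype.val_injective) h0
  refine ⟨q, fun i r => ∑ j, u j * algebraMap A B (a (i, j) r), y, fun i => ?_, fun r => ?_⟩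
  · calc x i = (∑ j, u j * w j) • x i := by rw [huw, one_smul]
      _ = ∑ j, u j • (w j • x i) := by rw [Finset.sum_smul]; simp [mul_smul]
      _ = ∑ j, ∑ r, u j • (a (i, j) r • y r) := by
          refine Finset.sum_congr rfl fun j _ => ?_
          rw [show w j • x i = ∑ r, a (i, j) r • y r from hay (i, j), Finset.smul_sum]
      _ = _ := by
          rw [Finset.sum_comm]
          refine Finset.sum_congr rfl fun r _ => ?_
          rw [Finset.sum_smul]
          refine Finset.sum_congr rfl fun j _ => ?_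
          rw [mul_smul, algebraMap_smul]
  · rw [← ha0 r, Fintype.sum_prod_type]
    refine Finset.sum_congr rfl fun i _ => ?_
    rw [Finset.mul_sum]
    refine Finset.sum_congr rfl fun j _ => ?_
    rw [Algebra.smul_def]
    ring

theorem flat_of_field {K : Type u} [Field K] {R : Type u} [CommRing R] [Algebra K R] [Algebra.WeaklyEtale K R]
    (N : Type u) [AddCommGroup N] [Module R N] : Module.Flat R N :=
  letI := Module.compHom N (algebraMap K R)
  haveI : IsScalarTower K R N := IsScalarTower.of_algebraMap_smul fun _ _ => rfl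
  flat_of_flat (A := K) (B := R) N

/-- weakly etale algebras over fields are von Neumann regular -/
theorem exists_mul_eq {K : Type u} [Field K] {R : Type u} [CommRing R] [Algebra K R] [Algebra.WeaklyEtale K R]
    (a : R) : ∃ r, a = a * a * r := by
  haveI : (Ideal.span {a}).Pure := flat_of_field (K := K) _
  obtain ⟨y, hy, hay⟩ := Ideal.exists_eq_mul_of_pure (Ideal.mem_span_singleton_self a)
  obtain ⟨r, rfl⟩ := Ideal.mem_span_singleton'.1 hy
  exact ⟨r, hay.trans (by ring)⟩

theorem isReduced_of_forall_exists {R : Type u} [CommRing R] (h : ∀ a : R, ∃ r, a = a * a * r) : IsReduced R := by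
  refine isReduced_iff_pow_one_lt 2 (by norm_num) |>.2 fun a ha => ?_
  obtain ⟨r, hr⟩ := h a
  rw [hr, ← pow_two, ha, zero_mul]

theorem isMaximal_of_forall_exists {R : Type u} [CommRing R] (h : ∀ a : R, ∃ r, a = a * a * r)
    (p : Ideal R) [p.IsPrime] : p.IsMaximal := by
  refine Ideal.isMaximal_iff.2 ⟨p.one_notMem, fun J a hpJ hap haJ => ?_⟩
  obtain ⟨r, hr⟩ := h a
  have h0 : a * (1 - a * r) ∈ p := by
    rw [mul_sub, mul_one, ← mul_assoc, ← hr, sub_self]; exact p.zero_mem
  simpa using J.add_mem (hpJ ((‹p.IsPrime›.mem_or_mem h0).resolve_left hap)) (J.mul_mem_right r haJ)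

/-- weakly etale algebras with no idempotents over a field are fields -/
theorem isField_of_forall_exists {R : Type u} [CommRing R] [Nontrivial R] (h : ∀ a : R, ∃ r, a = a * a * r)
    (hid : ∀ e : R, IsIdempotentElem e → e = 0 ∨ e = 1) : IsField R := by
  refine ⟨exists_pair_ne R, mul_comm, fun {a} ha => ?_⟩
  obtain ⟨r, hr⟩ := h a
  rcases hid (a * r) (show a * r * (a * r) = a * r by rw [← mul_assoc, mul_right_comm a r a, ← hr]) with h0 | h1
  · exact absurd (by rw [hr, mul_assoc, h0, mul_zero]) ha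
  · exact ⟨r, h1⟩

/-- cancellation -/
theorem cancel (C : Type u) [CommRing C] [Algebra A C] [Algebra B C] [IsScalarTower A B C]
    [Algebra.WeaklyEtale A B] [Algebra.WeaklyEtale A C] : Algebra.WeaklyEtale B C := by
  refine { flat := flat_of_flat (A := A) C, flat_lmul' := ?_ }
  let μA := Algebra.TensorProduct.lmul' A (S := C)
  let μB := Algebra.TensorProduct.lmul' B (S := C)
  let π : C ⊗[A] C →ₐ[A] C ⊗[B] C := Algebra.TensorProduct.lift
    ((Algebra.TensorProduct.includeLeft (R := B) (S := B) (A := C) (B := C)).restrictScalars A)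
    ((Algebra.TensorProduct.includeRight (R := B) (A := C) (B := C)).restrictScalars A) (fun _ _ => .all _ _)
  have hπt : ∀ x y : C, π (x ⊗ₜ[A] y) = x ⊗ₜ[B] y := fun x y => by simp [π]
  have hπ : Function.Surjective π := fun z => by
    induction z using TensorProduct.induction_on with
    | zero => exact ⟨0, map_zero _⟩
    | tmul x y => exact ⟨x ⊗ₜ y, hπt x y⟩
    | add x y hx hy => obtain ⟨a, rfl⟩ := hx; obtain ⟨b, rfl⟩ := hy; exact ⟨a + b, map_add _ _ _⟩
  letI a1 : Algebra (C ⊗[A] C) (C ⊗[B] C) := π.toRingHom.toAlgebra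
  letI a2 : Algebra (C ⊗[B] C) C := μB.toRingHom.toAlgebra
  letI a3 : Algebra (C ⊗[A] C) C := μA.toRingHom.toAlgebra
  haveI : Module.Flat (C ⊗[A] C) C := Algebra.WeaklyEtale.flat_lmul' A C
  have hμ : ∀ z, μA z = μB (π z) := fun z => by
    induction z using TensorProduct.induction_on with
    | zero => simp
    | tmul x y => simp [μA, μB, hπt]
    | add x y hx hy => simp only [map_add, hx, hy]
  have hsm : ∀ z (c : C), (π z) • c = z • c := fun z c => congrArg (· * c) (hμ z).symm
  show Module.Flat (C ⊗[B] C) C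
  refine Module.Flat.of_forall_isTrivialRelation fun {l f x} hfx => ?_
  choose g hg using fun i => hπ (f i)
  have h1 : ∑ i, g i • x i = 0 := by
    rw [← hfx]
    refine Finset.sum_congr rfl fun i _ => ?_
    rw [← hg i]
    exact (hsm (g i) (x i)).symm
  obtain ⟨q, a, y, h, ha⟩ := Module.Flat.isTrivialRelation_of_sum_smul_eq_zero h1
  refine ⟨q, fun i r => π (a i r), y, fun i => ?_, fun r => ?_⟩
  · exact (h i).trans (Finset.sum_congr rfl fun r _ => (hsm (a i r) (y r)).symm)
  · simp only [← hg, ← map_mul, ← map_sum, ha r, map_zero]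

end

end Groth.Agent.WEtLib
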