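import Groth.Agent.WStrictLib.WEtaleCover
import Mathlib.RingTheory.Smooth.IntegralClosure
import Mathlib.RingTheory.IntegralClosure.IntegrallyClosed
import Mathlib.RingTheory.Polynomial.ScaleRoots

/-!
# Weakly étale algebras over normal domains
-/

universe u

open scoped TensorProduct
open Polynomial

namespace Groth.Agent.WEtLib

noncomputable section

variable {A : Type u} [CommRing A] [IsDomain A] [IsIntegrallyClosed A]

theorem includeLeft_injective_of_flat (K : Type u) [Field K] [Algebra A K] [IsFractionRing A K]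
    (N : Type u) [CommRing N] [Algebra A N] [Module.Flat A N] :
    Function.Injective (algebraMap N (N ⊗[A] K)) :=
  Algebra.TensorProduct.includeLeft_injective (S := A) (IsFractionRing.injective A K)

/-- the étale case -/
theorem dvd_of_integral_of_smooth {N : Type u} [CommRing N] [Algebra A N] [Algebra.Smooth A N]
    (p : N[X]) (hp : p.Monic) {a : A} (ha : a ≠ 0) (d : N)
    (h : (p.scaleRoots (algebraMap A N a)).eval d = 0) : algebraMap A N a ∣ d := by
  have := Algebra.Smooth.flat A N
  let K := FractionRing A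
  let M := N ⊗[A] K
  let ι := algebraMap N M
  let y : M := d ⊗ₜ (algebraMap A K a)⁻¹
  have hane : algebraMap A K a ≠ 0 := (map_ne_zero_iff _ (IsFractionRing.injective A K)).2 ha
  have hιd : ∀ x : N, ι x = x ⊗ₜ[A] (1 : K) := fun x => rfl
  have hy : ι (algebraMap A N a) * y = ι d := by
    rw [hιd, hιd]
    refine (Algebra.TensorProduct.tmul_mul_tmul _ _ _ _).trans ?_
    rw [one_mul]
    rw [show algebraMap A N a * d = a • d from (Algebra.smul_def a d).symm, TensorProduct.smul_tmul,
      Algebra.smul_def, mul_inv_cancel₀ hane]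
  have hu : IsUnit (ι (algebraMap A N a)) := by
    rw [← IsScalarTower.algebraMap_apply A N M,
      ← (Algebra.TensorProduct.includeRight : K →ₐ[A] M).commutes]
    exact (isUnit_iff_ne_zero.2 hane).map (Algebra.TensorProduct.includeRight : K →ₐ[A] M)
  have hint : IsIntegral N y := by
    refine ⟨p, hp, (hu.pow p.natDegree).mul_right_eq_zero.1 ?_⟩
    rw [← scaleRoots_eval₂_mul, hy, eval₂_at_apply, h, map_zero]
  obtain ⟨w, hw⟩ := (TensorProduct.toIntegralClosure_bijective_of_smooth (R := A) (S := N) (B := K)).2 ⟨y, hint⟩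
  replace hw : Algebra.TensorProduct.map (AlgHom.id N N) (integralClosure A K).val w = y := congrArg Subtype.val hw
  have hmem : ∀ w, ∃ s : N, Algebra.TensorProduct.map (AlgHom.id N N) (integralClosure A K).val w = ι s := fun w => by
    induction w with
    | zero => exact ⟨0, by simp⟩
    | tmul s k =>
      obtain ⟨b, hb⟩ := IsIntegrallyClosed.isIntegral_iff.mp k.2
      refine ⟨b • s, ?_⟩
      simp only [hιd, Algebra.TensorProduct.map_tmul, AlgHom.id_apply, Subalgebra.coe_val]
      rw [← hb, Algebra.algebraMap_eq_smul_one, TensorProduct.smul_tmul]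
    | add u v hu hv =>
      obtain ⟨s, hs⟩ := hu
      obtain ⟨t, ht⟩ := hv
      exact ⟨s + t, by rw [map_add, hs, ht, map_add]⟩
  obtain ⟨s, hs⟩ := hmem w
  refine ⟨s, includeLeft_injective_of_flat (A := A) K N ?_⟩
  rw [map_mul]
  change ι d = ι (algebraMap A N a) * ι s
  rw [← hs, hw, hy]

/-- the ind-étale case -/
theorem dvd_of_integral_of_isIndEtale {D : Type u} [CommRing D] [Algebra A D] (hD : EtPBC.IsIndEtale A D)
    (p : D[X]) (hp : p.Monic) {a : A} (ha : a ≠ 0) (d : D)
    (h : (p.scaleRoots (algebraMap A D a)).eval d = 0) : algebraMap A D a ∣ d := by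
  classical
  obtain ⟨S, hS, ⟨e⟩⟩ := IndEtLib.exists_sys hD
  let n := p.natDegree
  obtain ⟨j, y, hy⟩ := S.exists_lift_finset (Finset.univ : Finset (Option (Fin n)))
    fun o => e.symm (o.elim d fun i => p.coeff i)
  let q : (S.A j)[X] := X ^ n + ∑ i : Fin n, C (y (some i)) * X ^ (i : ℕ)
  have hι : ∀ o, e (S.ι j (y o)) = o.elim d fun i => p.coeff i := fun o => by
    rw [hy o (Finset.mem_univ o), e.apply_symm_apply]
  have hdeg : (∑ i : Fin n, C (y (some i)) * X ^ (i : ℕ)).degree < (n : WithBot ℕ) := by
    refine (degree_sum_le _ _).trans_lt ((Finset.sup_lt_iff (WithBot.bot_lt_coe n)).2 fun i _ => ?_)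
    exact (degree_C_mul_X_pow_le _ _).trans_lt (WithBot.coe_lt_coe.2 i.2)
  have hq : q.Monic := monic_X_pow_add hdeg
  have hmap : q.map ((e.toAlgHom.comp (S.ι j)).toRingHom) = p := by
    conv_rhs => rw [hp.as_sum, Finset.sum_range fun i => C (p.coeff i) * X ^ i]
    simp only [q, Polynomial.map_add, Polynomial.map_pow, map_X, Polynomial.map_sum, Polynomial.map_mul, map_C]
    congr 1
    refine Finset.sum_congr rfl fun i _ => ?_
    rw [show (e.toAlgHom.comp (S.ι j)).toRingHom (y (some i)) = p.coeff i from hι (some i)]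
  have h0 : S.ι j ((q.scaleRoots (algebraMap A (S.A j) a)).eval (y none)) = 0 := by
    refine e.injective ?_
    rw [map_zero]
    rcases subsingleton_or_nontrivial D with hs | hs
    · exact Subsingleton.elim _ _
    have hm := map_scaleRoots q (algebraMap A (S.A j) a) (e.toAlgHom.comp (S.ι j)).toRingHom (by
      rw [hq.leadingCoeff, map_one]; exact one_ne_zero)
    rw [hmap, show (e.toAlgHom.comp (S.ι j)).toRingHom (algebraMap A (S.A j) a) = algebraMap A D a from
      (e.toAlgHom.comp (S.ι j)).commutes a] at hm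
    have h2 := Polynomial.eval_map_apply (p := q.scaleRoots (algebraMap A (S.A j) a))
      (f := (e.toAlgHom.comp (S.ι j)).toRingHom) (y none)
    rw [hm, show (e.toAlgHom.comp (S.ι j)).toRingHom (y none) = d from hι none, h] at h2
    exact h2.symm
  obtain ⟨k, f, hk⟩ := S.eq_zero h0
  have := hS k
  rcases subsingleton_or_nontrivial (S.A k) with hs | hs
  · refine ⟨0, ?_⟩
    have : (1 : D) = 0 := by rw [← map_one (e.toAlgHom.comp (S.ι k)), Subsingleton.elim (1 : S.A k) 0, map_zero]
    exact (subsingleton_of_zero_eq_one this.symm).elim _ _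
  have hm := map_scaleRoots q (algebraMap A (S.A j) a) (S.tr f).toRingHom (by
    rw [hq.leadingCoeff, map_one]; exact one_ne_zero)
  rw [show (S.tr f).toRingHom (algebraMap A (S.A j) a) = algebraMap A (S.A k) a from (S.tr f).commutes a] at hm
  have h2 := Polynomial.eval_map_apply (p := q.scaleRoots (algebraMap A (S.A j) a)) (f := (S.tr f).toRingHom) (y none)
  rw [hm] at h2
  obtain ⟨s, hs⟩ := dvd_of_integral_of_smooth (q.map (S.tr f).toRingHom) (hq.map _) ha (S.tr f (y none))
    (h2.trans hk)
  refine ⟨e (S.ι k s), ?_⟩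
  have h3 := congrArg (fun z => e (S.ι k z)) hs
  simp only [map_mul, AlgHom.commutes, AlgEquiv.commutes, IndEtLib.Sys.ι_tr_apply] at h3
  rw [← h3]
  rw [IndEtLib.Sys.ι_tr_apply]
  exact (hι none).symm

theorem isIntegrallyClosedIn_tensor (K : Type u) [Field K] [Algebra A K] [IsFractionRing A K]
    (B : Type u) [CommRing B] [Algebra A B] [Algebra.WeaklyEtale A B] :
    IsIntegrallyClosedIn B (B ⊗[A] K) := by
  refine isIntegrallyClosedIn_iff.2 ⟨includeLeft_injective_of_flat K B, fun {z} hz => ?_⟩
  let M := B ⊗[A] K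
  have hfrac : ∀ z : M, ∃ a : A, a ≠ 0 ∧ ∃ b : B, algebraMap B M (algebraMap A B a) * z = algebraMap B M b := fun z => by
    induction z using TensorProduct.induction_on with
    | zero => exact ⟨1, one_ne_zero, 0, by simp⟩
    | tmul b k =>
      obtain ⟨c, a, ha, rfl⟩ := IsFractionRing.div_surjective (A := A) k
      refine ⟨a, nonZeroDivisors.ne_zero ha, c • b, ?_⟩
      have hιd : ∀ x : B, algebraMap B M x = x ⊗ₜ[A] (1 : K) := fun x => rfl
      rw [hιd, hιd]
      refine (Algebra.TensorProduct.tmul_mul_tmul _ _ _ _).trans ?_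
      rw [one_mul]
      rw [show algebraMap A B a * b = a • b from (Algebra.smul_def a b).symm, TensorProduct.smul_tmul, TensorProduct.smul_tmul, Algebra.smul_def, Algebra.smul_def,
        mul_one, mul_div_cancel₀ _ (IsFractionRing.to_map_ne_zero_of_mem_nonZeroDivisors ha)]
    | add u v hu hv =>
      obtain ⟨a, ha, b, hb⟩ := hu
      obtain ⟨a', ha', b', hb'⟩ := hv
      refine ⟨a * a', mul_ne_zero ha ha', algebraMap A B a' * b + algebraMap A B a * b', ?_⟩
      rw [map_mul, map_mul, map_add, map_mul, map_mul, ← hb, ← hb']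
      ring
  obtain ⟨a, ha, b, hb⟩ := hfrac z
  obtain ⟨p, hp, hpz⟩ := hz
  have h0 : (p.scaleRoots (algebraMap A B a)).eval b = 0 := by
    refine includeLeft_injective_of_flat (A := A) K B ?_
    have h1 : eval₂ (algebraMap B M) (algebraMap B M b) (p.scaleRoots (algebraMap A B a)) = 0 := by
      rw [← hb, scaleRoots_eval₂_mul, hpz, mul_zero]
    rw [map_zero]
    rwa [eval₂_at_apply] at h1
  obtain ⟨B', _, _, _, _, hff, hBB', hAB'⟩ := WStrictLib.exists_indEtale_cover (A := A) (B := B)
  have hb' : algebraMap A B' a ∣ algebraMap B B' b := by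
    refine dvd_of_integral_of_isIndEtale hAB' (p.map (algebraMap B B')) (hp.map _) ha _ ?_
    rcases subsingleton_or_nontrivial B' with hs | hs
    · exact Subsingleton.elim _ _
    rw [IsScalarTower.algebraMap_apply A B B', ← map_scaleRoots p (algebraMap A B a) _ (by
      rw [hp.leadingCoeff, map_one]; exact one_ne_zero), Polynomial.eval_map_apply, h0, map_zero]
  rw [IsScalarTower.algebraMap_apply A B B', ← Ideal.mem_span_singleton,
    ← Set.image_singleton, ← Ideal.map_span, ← Ideal.mem_comap,
    Ideal.comap_map_eq_self_of_faithfullyFlat] at hb'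
  obtain ⟨c, hc⟩ := Ideal.mem_span_singleton'.1 hb'
  refine ⟨c, ?_⟩
  have hu : IsUnit (algebraMap B M (algebraMap A B a)) := by
    rw [← IsScalarTower.algebraMap_apply A B M, ← (Algebra.TensorProduct.includeRight : K →ₐ[A] M).commutes]
    exact (isUnit_iff_ne_zero.2 ((map_ne_zero_iff _ (IsFractionRing.injective A K)).2 ha)).map
      (Algebra.TensorProduct.includeRight : K →ₐ[A] M)
  refine hu.mul_left_cancel ?_
  rw [hb, ← hc, map_mul, mul_comm]

end

end Groth.Agent.WEtLib
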