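import Mathlib
import Groth.Agent.WEtLib.Basic

/-!
# Weak étaleness is checked on local rings
-/

universe u
set_option autoImplicit false
open TensorProduct

namespace Groth.Agent.WEtLib

theorem weaklyEtale_localization {B Bq : Type u} [CommRing B] [CommRing Bq] [Algebra B Bq]
    (W : Submonoid B) [IsLocalization W Bq] : Algebra.WeaklyEtale B Bq := by
  haveI : Module.Flat B Bq := IsLocalization.flat Bq W
  refine ⟨inferInstance, ?_⟩
  have hkey : ∀ z : Bq ⊗[B] Bq, Algebra.TensorProduct.lmul' B z ⊗ₜ[B] (1 : Bq) = z := by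
    intro z
    induction z using TensorProduct.induction_on with
    | zero => simp
    | add a b ha hb => rw [map_add, TensorProduct.add_tmul, ha, hb]
    | tmul x y =>
      obtain ⟨b, s, rfl⟩ := IsLocalization.exists_mk'_eq W y
      rw [Algebra.TensorProduct.lmul'_apply_tmul]
      have h1 : x = (s : B) • (x * IsLocalization.mk' Bq 1 s) := by
        rw [Algebra.smul_def, mul_comm x, ← mul_assoc, IsLocalization.mk'_spec' Bq, map_one, one_mul]
      conv_rhs => rw [h1, TensorProduct.smul_tmul, Algebra.smul_def, IsLocalization.mk'_spec' Bq,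
        Algebra.algebraMap_eq_smul_one, ← TensorProduct.smul_tmul]
      congr 1
      rw [Algebra.smul_def, IsLocalization.mk'_eq_mul_mk'_one]
      ring
  exact RingHom.Flat.of_bijective ⟨Function.LeftInverse.injective (g := fun t => t ⊗ₜ[B] (1 : Bq)) hkey,
    fun t => ⟨t ⊗ₜ 1, by simp⟩⟩

theorem localization_of_weaklyEtale {A B Ap Bq : Type u} [CommRing A] [CommRing B] [CommRing Ap] [CommRing Bq]
    [Algebra A B] [Algebra A Ap] [Algebra B Bq] [Algebra A Bq] [Algebra Ap Bq] [IsScalarTower A B Bq]
    [IsScalarTower A Ap Bq] (U : Submonoid A) (W : Submonoid B) [IsLocalization U Ap] [IsLocalization W Bq]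
    [Algebra.WeaklyEtale A B] : Algebra.WeaklyEtale Ap Bq := by
  haveI := weaklyEtale_localization (Bq := Ap) U
  haveI := weaklyEtale_localization (Bq := Bq) W
  haveI := Algebra.WeaklyEtale.trans A B Bq
  exact cancel (A := A) (B := Ap) Bq

theorem of_forall_prime {A B : Type u} [CommRing A] [CommRing B] [Algebra A B]
    (h : ∀ (q : Ideal B) [q.IsMaximal], Algebra.WeaklyEtale A (Localization.AtPrime q)) :
    Algebra.WeaklyEtale A B := by
  refine ⟨Module.flat_of_isLocalized_maximal (R := A) B B (fun P _ => Localization.AtPrime P)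
    (fun P _ => Algebra.linearMap B _) (fun P _ => (h P).flat), ?_⟩
  algebraize [(Algebra.TensorProduct.lmul' A (S := B)).toRingHom]
  show Module.Flat (B ⊗[A] B) B
  refine Module.flat_of_isLocalized_maximal (R := B ⊗[A] B) B B (fun P _ => Localization.AtPrime P)
    (fun P _ => Algebra.linearMap B _) (fun P _ => ?_)
  haveI := h P
  let ι : B →ₐ[A] Localization.AtPrime P := IsScalarTower.toAlgHom A B _
  have hι : ι.Flat := by
    show (algebraMap B (Localization.AtPrime P)).Flat
    rw [RingHom.flat_algebraMap_iff]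
    infer_instance
  have h1 : ((Algebra.TensorProduct.lmul' A (S := Localization.AtPrime P)).comp
      (Algebra.TensorProduct.map ι ι)).Flat :=
    RingHom.Flat.comp (RingHom.Flat.tensorProductMap hι hι) (Algebra.WeaklyEtale.flat_lmul' A (Localization.AtPrime P))
  have h2 : ((Algebra.TensorProduct.lmul' A (S := Localization.AtPrime P)).comp
      (Algebra.TensorProduct.map ι ι)).toRingHom = algebraMap (B ⊗[A] B) (Localization.AtPrime P) := by
    refine RingHom.ext fun z => ?_
    induction z using TensorProduct.induction_on with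
    | zero => simp
    | add a b ha hb => rw [map_add, map_add, ha, hb]
    | tmul x y =>
      rw [IsScalarTower.algebraMap_apply (B ⊗[A] B) B (Localization.AtPrime P)]
      show (ι x) * (ι y) = algebraMap B _ (Algebra.TensorProduct.lmul' A (x ⊗ₜ y))
      simp [ι]
  rw [← RingHom.flat_algebraMap_iff, ← h2]
  exact h1

theorem iff_forall_stalk {A B : Type u} [CommRing A] [CommRing B] [Algebra A B] :
    Algebra.WeaklyEtale A B ↔ ∀ (q : Ideal B) [q.IsPrime], Algebra.WeaklyEtale A (Localization.AtPrime q) := by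
  refine ⟨fun h q _ => ?_, fun h => of_forall_prime fun q _ => h q⟩
  haveI := weaklyEtale_localization (Bq := Localization.AtPrime q) q.primeCompl
  exact Algebra.WeaklyEtale.trans A B _

open AlgebraicGeometry CategoryTheory CategoryTheory.Limits in
theorem weaklyEtale_Spec_iff {R S : CommRingCat.{u}} (φ : R ⟶ S) :
    AlgebraicGeometry.WeaklyEtale (Spec.map φ) ↔
      (letI := φ.hom.toAlgebra; Algebra.WeaklyEtale R S) := by
  letI := φ.hom.toAlgebra
  show AlgebraicGeometry.WeaklyEtale (Spec.map (CommRingCat.ofHom (algebraMap R S))) ↔ Algebra.WeaklyEtale R S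
  have hd : Flat (pullback.diagonal (Spec.map (CommRingCat.ofHom (algebraMap R S)))) ↔
      (Algebra.TensorProduct.lmul' R (S := S)).Flat := by
    rw [AlgebraicGeometry.diagonal_SpecMap, MorphismProperty.cancel_right_of_respectsIso (P := @Flat),
      HasRingHomProperty.Spec_iff (P := @Flat)]
    rfl
  rw [AlgebraicGeometry.weaklyEtale_iff, Algebra.weaklyEtale_iff, hd, HasRingHomProperty.Spec_iff (P := @Flat)]
  exact and_congr_left' (RingHom.flat_algebraMap_iff)

theorem weaklyEtale_congr {A Bq L : Type u} [CommRing A] [CommRing Bq] [CommRing L] [Algebra A Bq] [Algebra A L]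
    (e : Bq ≃ₐ[A] L) [Algebra.WeaklyEtale A Bq] : Algebra.WeaklyEtale A L := by
  letI := e.toAlgHom.toRingHom.toAlgebra
  haveI : IsScalarTower A Bq L := .of_algebraMap_eq fun a => (e.commutes a).symm
  haveI : Algebra.Etale Bq L := Algebra.Etale.of_equiv (AlgEquiv.ofBijective (Algebra.ofId Bq L) e.bijective)
  exact Algebra.WeaklyEtale.trans A Bq L

open AlgebraicGeometry CategoryTheory CategoryTheory.Limits in
/-- Weak étaleness of a morphism of schemes is a condition on the local rings. -/
theorem weaklyEtale_iff_stalkMap {X Y : Scheme.{u}} (f : X ⟶ Y) :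
    AlgebraicGeometry.WeaklyEtale f ↔
      ∀ x : X, (letI := (f.stalkMap x).hom.toAlgebra;
        Algebra.WeaklyEtale (Y.presheaf.stalk (f x)) (X.presheaf.stalk x)) := by
  constructor
  · intro hf x
    obtain ⟨U, hU, hxU, -⟩ := exists_isAffineOpen_mem_and_subset (X := Y) (x := f x) (U := ⊤) trivial
    obtain ⟨V, hV, hxV, hVU⟩ := exists_isAffineOpen_mem_and_subset (X := X) (x := x) (U := f ⁻¹ᵁ U) hxU
    have h1 : AlgebraicGeometry.WeaklyEtale (Spec.map (f.appLE U V hVU) ≫ hU.fromSpec) := by
      rw [IsAffineOpen.SpecMap_appLE_fromSpec f hU hV hVU]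
      infer_instance
    have h2 := (weaklyEtale_Spec_iff (f.appLE U V hVU)).mp (AlgebraicGeometry.WeaklyEtale.of_comp (Spec.map (f.appLE U V hVU)) hU.fromSpec)
    letI := (f.appLE U V hVU).hom.toAlgebra
    letI := (f.stalkMap x).hom.toAlgebra
    letI := TopCat.Presheaf.algebra_section_stalk Y.presheaf (⟨f x, hxU⟩ : U)
    letI := TopCat.Presheaf.algebra_section_stalk X.presheaf (⟨x, hxV⟩ : V)
    haveI := hU.isLocalization_stalk ⟨f x, hxU⟩
    haveI := hV.isLocalization_stalk ⟨x, hxV⟩
    letI : Algebra Γ(Y, U) (X.presheaf.stalk x) :=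
      ((algebraMap Γ(X, V) (X.presheaf.stalk x)).comp (algebraMap Γ(Y, U) Γ(X, V))).toAlgebra
    haveI : IsScalarTower Γ(Y, U) Γ(X, V) (X.presheaf.stalk x) := .of_algebraMap_eq fun _ => rfl
    haveI : IsScalarTower Γ(Y, U) (Y.presheaf.stalk (f x)) (X.presheaf.stalk x) := .of_algebraMap_eq fun a => by
      show X.presheaf.germ V x hxV (f.appLE U V hVU a) = f.stalkMap x (Y.presheaf.germ U (f x) hxU a)
      rw [Scheme.Hom.germ_stalkMap_apply f U x hxU, Scheme.Hom.appLE, CommRingCat.comp_apply,
        X.presheaf.germ_res_apply]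
    haveI : Algebra.WeaklyEtale Γ(Y, U) Γ(X, V) := h2
    exact localization_of_weaklyEtale (hU.primeIdealOf ⟨f x, hxU⟩).asIdeal.primeCompl
      (hV.primeIdealOf ⟨x, hxV⟩).asIdeal.primeCompl
  · intro h
    have key : ∀ x : X, ∃ V : X.Opens, x ∈ V ∧ AlgebraicGeometry.WeaklyEtale (V.ι ≫ f) := by
      intro x
      obtain ⟨U, hU, hxU, -⟩ := exists_isAffineOpen_mem_and_subset (X := Y) (x := f x) (U := ⊤) trivial
      obtain ⟨V, hV, hxV, hVU⟩ := exists_isAffineOpen_mem_and_subset (X := X) (x := x) (U := f ⁻¹ᵁ U) hxU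
      refine ⟨V, hxV, ?_⟩
      haveI : AlgebraicGeometry.WeaklyEtale (Spec.map (f.appLE U V hVU)) := by
        rw [weaklyEtale_Spec_iff]
        letI := (f.appLE U V hVU).hom.toAlgebra
        refine of_forall_prime fun q hq => ?_
        obtain ⟨z, hzV, hz⟩ : ∃ (z : X) (hzV : z ∈ V), (hV.primeIdealOf ⟨z, hzV⟩).asIdeal = q := by
          let p : Spec Γ(X, V) := ⟨q, hq.isPrime⟩
          have hm : hV.fromSpec p ∈ V := by
            have hr : hV.fromSpec p ∈ Set.range hV.fromSpec := ⟨p, rfl⟩
            rwa [hV.range_fromSpec] at hr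
          refine ⟨hV.fromSpec p, hm, congrArg PrimeSpectrum.asIdeal (hV.fromSpec.isOpenEmbedding.injective ?_ : hV.primeIdealOf ⟨_, hm⟩ = p)⟩
          exact hV.fromSpec_primeIdealOf ⟨_, hm⟩
        subst hz
        have hzU : f z ∈ U := hVU hzV
        letI := (f.stalkMap z).hom.toAlgebra
        haveI := h z
        letI := TopCat.Presheaf.algebra_section_stalk Y.presheaf (⟨f z, hzU⟩ : U)
        letI := TopCat.Presheaf.algebra_section_stalk X.presheaf (⟨z, hzV⟩ : V)
        haveI := hU.isLocalization_stalk ⟨f z, hzU⟩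
        haveI := hV.isLocalization_stalk ⟨z, hzV⟩
        letI : Algebra Γ(Y, U) (X.presheaf.stalk z) :=
          ((algebraMap Γ(X, V) (X.presheaf.stalk z)).comp (algebraMap Γ(Y, U) Γ(X, V))).toAlgebra
        haveI : IsScalarTower Γ(Y, U) Γ(X, V) (X.presheaf.stalk z) := .of_algebraMap_eq fun _ => rfl
        haveI : IsScalarTower Γ(Y, U) (Y.presheaf.stalk (f z)) (X.presheaf.stalk z) := .of_algebraMap_eq fun a => by
          show X.presheaf.germ V z hzV (f.appLE U V hVU a) = f.stalkMap z (Y.presheaf.germ U (f z) hzU a)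
          rw [Scheme.Hom.germ_stalkMap_apply f U z hzU, Scheme.Hom.appLE, CommRingCat.comp_apply,
            X.presheaf.germ_res_apply]
        haveI := weaklyEtale_localization (B := Γ(Y, U)) (Bq := Y.presheaf.stalk (f z))
          (hU.primeIdealOf ⟨f z, hzU⟩).asIdeal.primeCompl
        haveI := Algebra.WeaklyEtale.trans Γ(Y, U) (Y.presheaf.stalk (f z)) (X.presheaf.stalk z)
        exact weaklyEtale_congr ((IsLocalization.algEquiv (hV.primeIdealOf ⟨z, hzV⟩).asIdeal.primeCompl
          (X.presheaf.stalk z) (Localization.AtPrime (hV.primeIdealOf ⟨z, hzV⟩).asIdeal)).restrictScalars Γ(Y, U))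
      have he : V.ι ≫ f = hV.isoSpec.hom ≫ Spec.map (f.appLE U V hVU) ≫ hU.fromSpec := by
        rw [IsAffineOpen.SpecMap_appLE_fromSpec f hU hV hVU, IsAffineOpen.fromSpec, Category.assoc,
          Iso.hom_inv_id_assoc]
      rw [he]
      infer_instance
    choose V hxV hV using key
    exact (IsZariskiLocalAtSource.iff_of_iSup_eq_top (P := @AlgebraicGeometry.WeaklyEtale) V
      (TopologicalSpace.IsOpenCover.mk (by rw [eq_top_iff]; exact fun x _ => TopologicalSpace.Opens.mem_iSup.mpr ⟨x, hxV x⟩))).mpr hV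

universe v
variable {A B : Type u} [CommRing A] [CommRing B] [Algebra A B]

/-- flatness over the base gives flatness over a weakly etale algebra -/
theorem flat_of_flat_univ [Algebra.WeaklyEtale A B] (N : Type v) [AddCommGroup N] [Module A N] [Module B N]
    [IsScalarTower A B N] [Module.Flat A N] : Module.Flat B N := by
  classical
  refine Module.Flat.of_forall_isTrivialRelation fun {l f x} hfx => ?_
  obtain ⟨k, u, w, huw, hs⟩ := exists_splitting (A := A) (Finset.univ.image f)
  -- the relation vanishes in `B ⊗[A] N`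
  have h0 : ∑ p : Fin l × Fin k, (f p.1 * u p.2) ⊗ₜ[A] (w p.2 • x p.1) = (0 : B ⊗[A] N) := by
    let ψ : ∀ n : N, B ⊗[A] B →ₗ[A] B ⊗[A] N := fun n =>
      TensorProduct.map LinearMap.id ((LinearMap.toSpanSingleton B N n).restrictScalars A)
    calc ∑ p : Fin l × Fin k, (f p.1 * u p.2) ⊗ₜ[A] (w p.2 • x p.1)
        = ∑ i, ψ (x i) (∑ j, (f i * u j) ⊗ₜ[A] w j) := by
          simp [ψ, Fintype.sum_prod_type]
      _ = ∑ i, ψ (x i) (∑ j, u j ⊗ₜ[A] (f i * w j)) := by
          refine Finset.sum_congr rfl fun i _ => ?_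
          rw [hs (f i) (Finset.mem_image_of_mem _ (Finset.mem_univ i))]
      _ = ∑ j, u j ⊗ₜ[A] (w j • ∑ i, f i • x i) := by
          simp only [ψ, map_sum, TensorProduct.map_tmul, LinearMap.id_apply, LinearMap.coe_restrictScalars,
            LinearMap.toSpanSingleton_apply, Finset.smul_sum, TensorProduct.tmul_sum]
          rw [Finset.sum_comm]
          refine Finset.sum_congr rfl fun j _ => Finset.sum_congr rfl fun i _ => ?_
          rw [smul_smul, mul_comm (w j)]
      _ = 0 := by simp [hfx]
  obtain ⟨q, a, y, hay, ha0⟩ := vanishesTrivially_of_sum_tmul_eq_zero_of_rTensor_injective A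
    (Module.Flat.rTensor_preserves_injective_linearMap _ Subtype.val_injective) h0
  refine ⟨q, fun i r => ∑ j, u j * algebraMap A B (a (i, j) r), y, fun i => ?_, fun r => ?_⟩
  · calc x i = (∑ j, u j * w j) • x i := by rw [huw, one_smul]
      _ = ∑ j, u j • (w j • x i) := by rw [Finset.sum_smul]; simp [mul_smul]
      _ = ∑ j, ∑ r, u j • (a (i, j) r • y r) := by
          refine Finset.sum_congr rfl fun j _ => ?_
          rw [show w j • x i = ∑ r, a (i, j) r • y r from hay (i, j), Finset.smul_sum]
      _ = _ := by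
          rw [Finset.sum_comm]
          refine Finset.sum_congr rfl fun r _ => ?_
          rw [Finset.sum_smul]
          refine Finset.sum_congr rfl fun j _ => ?_
          rw [mul_smul, algebraMap_smul]
  · rw [← ha0 r, Fintype.sum_prod_type]
    refine Finset.sum_congr rfl fun i _ => ?_
    rw [Finset.mul_sum]
    refine Finset.sum_congr rfl fun j _ => ?_
    rw [Algebra.smul_def]
    ring

end Groth.Agent.WEtLib
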