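import Groth.Agent.WEtLib.Field
import Groth.Agent.UnramMisc.Weakly
import Groth.Agent.IndEtLib.Sys
import Groth.Agent.S0736
import Mathlib.RingTheory.Etale.Field
import Mathlib.RingTheory.Ideal.MinimalPrime.Localization
import Mathlib.RingTheory.Artinian.Module

/-!
# Weakly étale algebras over fields
-/

universe u

open scoped TensorProduct

namespace Groth.Agent.WEtLib

noncomputable section

variable {K : Type u} [Field K] {B : Type u} [CommRing B] [Algebra K B] [Algebra.WeaklyEtale K B]

/-- quotients by primes are algebraic separable extension fields -/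
theorem isAlgebraic_mk (P : Ideal B) [P.IsPrime] (x : B) : IsAlgebraic K (Ideal.Quotient.mk P x) := by
  have := weaklyEtale_quotient (K := K) P
  let := (Ideal.Quotient.maximal_ideal_iff_isField_quotient P |>.1
    (isMaximal_of_forall_exists (exists_mul_eq (K := K)) P)).toField
  exact algebraic_of_weaklyEtale (K := K) (L := B ⧸ P) _

theorem isSeparable_mk (P : Ideal B) [P.IsPrime] (x : B) : IsSeparable K (Ideal.Quotient.mk P x) := by
  have := weaklyEtale_quotient (K := K) P
  let := (Ideal.Quotient.maximal_ideal_iff_isField_quotient P |>.1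
    (isMaximal_of_forall_exists (exists_mul_eq (K := K)) P)).toField
  have := UnramMisc.isSeparable_of_weaklyEtale (K := K) (L := B ⧸ P) fun y => algebraic_of_weaklyEtale y
  exact Algebra.IsSeparable.isSeparable K _

/-- weakly étale algebras over fields are integral -/
theorem isIntegral_of_weaklyEtale (x : B) : IsIntegral K x := by
  by_contra hx
  have htr : Transcendental K x := fun h => hx h.isIntegral
  have hinj := transcendental_iff_injective.1 htr
  have hmin : (⊥ : Ideal (Polynomial K)) ∈ minimalPrimes (Polynomial K) := by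
    rw [IsDomain.minimalPrimes_eq_singleton_bot]; exact Set.mem_singleton _
  obtain ⟨P, hP, hP0⟩ := Ideal.exists_comap_eq_of_mem_minimalPrimes_of_injective
    (f := (Polynomial.aeval (R := K) x).toRingHom) hinj ⊥ hmin
  obtain ⟨p, hp0, hp⟩ := isAlgebraic_mk (K := K) P x
  refine hp0 (Ideal.mem_bot.1 (hP0 ▸ ?_))
  change Polynomial.aeval x p ∈ P
  rw [← Ideal.Quotient.eq_zero_iff_mem, ← Ideal.Quotient.mkₐ_eq_mk K, ← Polynomial.aeval_algHom_apply]
  exact hp

omit [Algebra.WeaklyEtale K B] in
theorem etale_of_isReduced_finite (R : Type u) [CommRing R] [Algebra K R] [Module.Finite K R] [IsArtinianRing R]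
    [IsReduced R] (hsep : ∀ (m : MaximalSpectrum R) (z : R ⧸ m.asIdeal), IsSeparable K z) : Algebra.Etale K R := by
  let _ : ∀ m : MaximalSpectrum R, Field (R ⧸ m.asIdeal) := fun m => Ideal.Quotient.field m.asIdeal
  refine (Algebra.Etale.iff_exists_algEquiv_prod K R).2 ⟨MaximalSpectrum R, inferInstance, fun m => R ⧸ m.asIdeal,
    inferInstance, inferInstance, ?_, fun m => ⟨?_, ⟨hsep m⟩⟩⟩
  · refine AlgEquiv.ofRingEquiv (f := IsArtinianRing.equivPi R) fun c => ?_
    exact funext fun m => (Ideal.Quotient.mk_algebraMap K m.asIdeal c)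
  · exact Module.Finite.of_surjective (Ideal.Quotient.mkₐ K m.asIdeal).toLinearMap Ideal.Quotient.mk_surjective

theorem isSeparable_quotient_of_injective {R : Type u} [CommRing R] [Algebra K R] (ι : R →ₐ[K] B)
    (hι : Function.Injective ι) (m : Ideal R) (hm : m ∈ minimalPrimes R) (z : R ⧸ m) : IsSeparable K z := by
  obtain ⟨P, hP, hPm⟩ := Ideal.exists_comap_eq_of_mem_minimalPrimes_of_injective (f := ι.toRingHom) hι m hm
  obtain ⟨s, rfl⟩ := Ideal.Quotient.mk_surjective z
  have hle : m ≤ RingHom.ker ((Ideal.Quotient.mkₐ K P).comp ι) := fun a ha =>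
    Ideal.Quotient.eq_zero_iff_mem.2 (hPm.ge ha)
  let g : (R ⧸ m) →ₐ[K] B ⧸ P := Ideal.Quotient.liftₐ m ((Ideal.Quotient.mkₐ K P).comp ι) hle
  have hinj : Function.Injective g := (injective_iff_map_eq_zero g.toRingHom).2 fun a => by
    obtain ⟨a, rfl⟩ := Ideal.Quotient.mk_surjective a
    intro ha
    have h3 : Ideal.Quotient.mk P (ι a) = 0 := ha
    exact Ideal.Quotient.eq_zero_iff_mem.2 (hPm.le (Ideal.mem_comap.2 (Ideal.Quotient.eq_zero_iff_mem.1 h3)))
  have h1 : g (Ideal.Quotient.mk m s) = Ideal.Quotient.mk P (ι s) := Ideal.Quotient.lift_mk m _ _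
  unfold IsSeparable
  rw [← minpoly.algHom_eq g hinj, h1]
  exact isSeparable_mk (K := K) P (ι s)

theorem etale_subalgebra_of_fg (S : Subalgebra K B) (hS : S.FG) : Algebra.Etale K S := by
  have : Algebra.FiniteType K S := S.fg_iff_finiteType.1 hS
  have : Algebra.IsIntegral K S := ⟨fun x => (isIntegral_algHom_iff S.val Subtype.val_injective).1 (isIntegral_of_weaklyEtale (x : B))⟩
  have : Module.Finite K S := Algebra.IsIntegral.finite
  have : IsArtinianRing S := IsArtinianRing.of_finite K S
  have : IsReduced B := isReduced_of_forall_exists (exists_mul_eq (K := K))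
  have : IsReduced S := isReduced_of_injective S.val.toRingHom Subtype.val_injective
  exact etale_of_isReduced_finite S fun m z =>
    isSeparable_quotient_of_injective S.val Subtype.val_injective m.asIdeal (IsArtinianRing.mem_minimalPrimes bot_le) z

theorem isIndEtale_subalgebra (S : Subalgebra K B) : EtPBC.IsIndEtale K S :=
  IndEtLib.isIndEtale_of_factor fun P _ _ _ φ => by
    let T : Subalgebra K B := (S.val.comp φ).range
    have hT : T.FG := by
      have : Algebra.FiniteType K T := Algebra.FiniteType.of_surjective (S.val.comp φ).rangeRestrict (AlgHom.rangeRestrict_surjective _)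
      exact T.fg_iff_finiteType.2 this
    have hle : T ≤ S := by
      rintro _ ⟨p, rfl⟩
      exact (φ p).2
    exact ⟨T, inferInstance, inferInstance, etale_subalgebra_of_fg T hT, (S.val.comp φ).rangeRestrict,
      Subalgebra.inclusion hle, rfl⟩

theorem isIndEtale_of_weaklyEtale : EtPBC.IsIndEtale K B :=
  Hensel.isIndEtale_of_algEquiv (isIndEtale_subalgebra (⊤ : Subalgebra K B)) Subalgebra.topEquiv

theorem weaklyEtale_subalgebra (S : Subalgebra K B) : Algebra.WeaklyEtale K S :=
  S0736.result K S (isIndEtale_subalgebra S)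

theorem isSeparable_residueField {A B : Type u} [CommRing A] [CommRing B] [Algebra A B]
    [Algebra.WeaklyEtale A B] (p : Ideal A) [p.IsPrime] (q : Ideal B) [q.IsPrime] [q.LiesOver p]
    [Algebra (Localization.AtPrime p) (Localization.AtPrime q)] [Localization.AtPrime.IsLiesOverAlgebra p q] :
    Algebra.IsSeparable p.ResidueField q.ResidueField := by
  let k := p.ResidueField
  let g : k ⊗[A] B →ₐ[k] q.ResidueField := Algebra.TensorProduct.lift (Algebra.ofId k q.ResidueField)
    (IsScalarTower.toAlgHom A B q.ResidueField) fun _ _ => .all _ _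
  have : (RingHom.ker g).IsPrime := RingHom.ker_isPrime g
  let J := RingHom.ker g
  have hfield : IsField ((k ⊗[A] B) ⧸ J) :=
    Ideal.Quotient.maximal_ideal_iff_isField_quotient J |>.1 (isMaximal_of_forall_exists (exists_mul_eq (K := k)) J)
  let g' : ((k ⊗[A] B) ⧸ J) →ₐ[k] q.ResidueField := Ideal.Quotient.liftₐ J g fun a ha => ha
  have hsurj : Function.Surjective g' := fun y => by
    obtain ⟨a, c, hc, rfl⟩ := IsFractionRing.div_surjective (A := B ⧸ q) y
    obtain ⟨a, rfl⟩ := Ideal.Quotient.mk_surjective a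
    obtain ⟨c, rfl⟩ := Ideal.Quotient.mk_surjective c
    have hval : ∀ b : B, g' (Ideal.Quotient.mk J ((1 : k) ⊗ₜ[A] b)) = algebraMap B q.ResidueField b := fun b => by
      refine (Ideal.Quotient.lift_mk J _ _).trans ?_
      change g _ = _
      rw [Algebra.TensorProduct.lift_tmul, map_one, one_mul]
      rfl
    have hc0 : algebraMap B q.ResidueField c ≠ 0 := by
      rw [Ne, Ideal.algebraMap_residueField_eq_zero, ← Ideal.Quotient.eq_zero_iff_mem]
      exact nonZeroDivisors.ne_zero hc
    obtain ⟨d, hd⟩ := hfield.mul_inv_cancel (a := Ideal.Quotient.mk J ((1 : k) ⊗ₜ[A] c)) fun h => hc0 (by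
      rw [← hval, h, map_zero])
    refine ⟨Ideal.Quotient.mk J ((1 : k) ⊗ₜ[A] a) * d, ?_⟩
    have h1 := congrArg g' hd
    rw [map_mul, map_one, hval] at h1
    rw [map_mul, hval, Ideal.algebraMap_quotient_residueField_mk, Ideal.algebraMap_quotient_residueField_mk,
      div_eq_mul_inv, eq_inv_of_mul_eq_one_right h1]
  refine ⟨fun y => ?_⟩
  obtain ⟨z, rfl⟩ := hsurj y
  obtain ⟨z, rfl⟩ := Ideal.Quotient.mk_surjective z
  have := weaklyEtale_quotient (K := k) J
  let := hfield.toField
  have := UnramMisc.isSeparable_of_weaklyEtale (K := k) (L := (k ⊗[A] B) ⧸ J) fun y => algebraic_of_weaklyEtale y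
  exact IsSeparable.map g' (RingHom.injective g'.toRingHom) (Algebra.IsSeparable.isSeparable k (Ideal.Quotient.mk J z))

end

end Groth.Agent.WEtLib
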