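import Groth.Agent.WEtLib.Domain
import Groth.Agent.Hensel.IntegralStrict
import Mathlib.FieldTheory.IsAlgClosed.AlgebraicClosure

/-!
# Olivier's theorem
-/

universe u

open TensorProduct

namespace Groth.Agent.WEtLib

noncomputable section

variable {A B : Type u} [CommRing A] [CommRing B] [Algebra A B] [HenselianLocalRing A] [IsLocalRing B]
  [IsSepClosed (IsLocalRing.ResidueField A)] [IsLocalHom (algebraMap A B)]

theorem add_pow_char_pow {D : Type u} [CommRing D] {q : ℕ} (hq : q = 1 ∨ (q.Prime ∧ (q : D) = 0)) (n : ℕ) (x y : D) :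
    (x + y) ^ q ^ n = x ^ q ^ n + y ^ q ^ n := by
  rcases hq with rfl | ⟨hp, h0⟩
  · simp
  · induction n generalizing x y with
    | zero => simp
    | succ n ih =>
      obtain ⟨r, hr⟩ := exists_add_pow_prime_eq hp x y
      have h1 : (x + y) ^ q = x ^ q + y ^ q := by rw [hr, h0]; ring
      rw [pow_succ', pow_mul, pow_mul, pow_mul, h1, ih]

include A in
theorem isLocalRing_tensor (A' : Type u) [CommRing A'] [Algebra A A'] [Algebra.IsIntegral A A'] [IsLocalRing A']
    [Module.Flat A B] :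
    ∃ _ : IsLocalRing (A' ⊗[A] B), IsLocalHom (algebraMap A' (A' ⊗[A] B)) := by
  classical
  haveI := Hensel.isLocalHom_of_isIntegral_local A A'
  haveI : Module.FaithfullyFlat A B := Module.FaithfullyFlat.of_flat_of_isLocalHom
  haveI : Nontrivial (A' ⊗[A] B) := inferInstance
  let j : B →ₐ[A] A' ⊗[A] B := Algebra.TensorProduct.includeRight
  have hint : j.toRingHom.IsIntegral := fun z => by
    induction z using TensorProduct.induction_on with
    | zero => exact RingHom.isIntegralElem_zero _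
    | add x y hx hy => exact RingHom.IsIntegralElem.add _ hx hy
    | tmul a b =>
      have e : a ⊗ₜ[A] b = (a ⊗ₜ[A] (1 : B)) * j b := by simp [j]
      rw [e]
      refine RingHom.IsIntegralElem.mul _ ?_ (RingHom.isIntegralElem_map _)
      obtain ⟨p, hp, hpa⟩ := Algebra.IsIntegral.isIntegral (R := A) a
      refine ⟨p.map (algebraMap A B), hp.map _, ?_⟩
      rw [Polynomial.eval₂_map, show j.toRingHom.comp (algebraMap A B) = algebraMap A (A' ⊗[A] B) from j.comp_algebraMap,
        ← Polynomial.aeval_def, show a ⊗ₜ[A] (1 : B) = (Algebra.TensorProduct.includeLeft : A' →ₐ[A] A' ⊗[A] B) a from rfl,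
        Polynomial.aeval_algHom_apply, show Polynomial.aeval a p = 0 from hpa, map_zero]
  -- maximal ideals lie over the closed points
  have hQB : ∀ Q : Ideal (A' ⊗[A] B), Q.IsMaximal → Q.comap j.toRingHom = IsLocalRing.maximalIdeal B := fun Q hQ =>
    IsLocalRing.eq_maximalIdeal (Ideal.isMaximal_comap_of_isIntegral_of_isMaximal' _ hint Q)
  have hQA : ∀ Q : Ideal (A' ⊗[A] B), Q.IsMaximal → Q.comap (algebraMap A' (A' ⊗[A] B)) = IsLocalRing.maximalIdeal A' := by
    intro Q hQ
    haveI := hQ.isPrime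
    refine IsLocalRing.eq_maximalIdeal (Ideal.isMaximal_of_isIntegral_of_isMaximal_comap (R := A) _ ?_)
    have e : (Q.comap (algebraMap A' (A' ⊗[A] B))).comap (algebraMap A A') = (IsLocalRing.maximalIdeal B).comap (algebraMap A B) := by
      rw [← hQB Q hQ, Ideal.comap_comap, Ideal.comap_comap, ← IsScalarTower.algebraMap_eq,
        show j.toRingHom.comp (algebraMap A B) = algebraMap A (A' ⊗[A] B) from j.comp_algebraMap]
    rw [e, IsLocalRing.maximalIdeal_comap]
    exact IsLocalRing.maximalIdeal.isMaximal A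
  obtain ⟨q, hqc⟩ := ExpChar.exists (IsLocalRing.ResidueField A)
  haveI := hqc
  let D := (A' ⊗[A] B) ⧸ Ideal.jacobson (⊥ : Ideal (A' ⊗[A] B))
  let π : A' ⊗[A] B →+* D := Ideal.Quotient.mk _
  have hπ : ∀ z, π z = 0 ↔ ∀ Q : Ideal (A' ⊗[A] B), Q.IsMaximal → z ∈ Q := fun z => by
    rw [Ideal.Quotient.eq_zero_iff_mem, Ideal.jacobson, Submodule.mem_sInf]
    exact ⟨fun h Q hQ => h Q ⟨bot_le, hQ⟩, fun h Q hQ => h Q hQ.2⟩
  have hπm : ∀ a ∈ IsLocalRing.maximalIdeal A', π (algebraMap A' _ a) = 0 := fun a ha =>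
    (hπ _).2 fun Q hQ => (hQA Q hQ).ge ha
  have hq : q = 1 ∨ (q.Prime ∧ (q : D) = 0) := by
    rcases hqc with _ | ⟨hp⟩
    · exact Or.inl rfl
    · refine Or.inr ⟨hp, ?_⟩
      have h0 : ((q : A)) ∈ IsLocalRing.maximalIdeal A := by
        rw [← IsLocalRing.residue_eq_zero_iff, map_natCast]; exact CharP.cast_eq_zero (IsLocalRing.ResidueField A) q
      have h1 : algebraMap A A' (q : A) ∈ IsLocalRing.maximalIdeal A' := fun hu => h0 (hu.of_map (algebraMap A A') _)
      have := hπm _ h1
      rwa [map_natCast, map_natCast, map_natCast] at this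
  obtain ⟨-, hpi⟩ := Hensel.residueField_of_isIntegral A A'
  letI := (IsLocalRing.ResidueField.map (algebraMap A A')).toAlgebra
  have hkey : ∀ z : A' ⊗[A] B, ∃ (n : ℕ) (b : B), π z ^ q ^ n = π (j b) := fun z => by
    induction z using TensorProduct.induction_on with
    | zero =>
      refine ⟨0, 0, ?_⟩
      rw [pow_zero, pow_one, map_zero, map_zero, map_zero]
    | tmul a b =>
      obtain ⟨n, a0, ha0⟩ := IsPurelyInseparable.pow_mem (IsLocalRing.ResidueField A) q (IsLocalRing.residue A' a)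
      obtain ⟨a0, rfl⟩ := IsLocalRing.residue_surjective a0
      refine ⟨n, algebraMap A B a0 * b ^ q ^ n, ?_⟩
      have hm : a ^ q ^ n - algebraMap A A' a0 ∈ IsLocalRing.maximalIdeal A' := by
        rw [← Ideal.Quotient.eq]
        exact ((map_pow _ _ _).trans ha0.symm).trans (IsLocalRing.ResidueField.map_residue (algebraMap A A') a0)
      have h2 := hπm _ hm
      rw [map_sub, map_sub, sub_eq_zero] at h2
      rw [show a ⊗ₜ[A] b = algebraMap A' (A' ⊗[A] B) a * j b by simp [j, Algebra.TensorProduct.algebraMap_apply],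
        map_mul, mul_pow, ← map_pow, ← map_pow, ← map_pow, h2, map_mul j, map_mul π, ← map_pow j]
      rw [AlgHom.commutes, IsScalarTower.algebraMap_apply A A' (A' ⊗[A] B)]
    | add x y hx hy =>
      obtain ⟨n, b, hb⟩ := hx
      obtain ⟨m, c, hc⟩ := hy
      refine ⟨n + m, b ^ q ^ m + c ^ q ^ n, ?_⟩
      rw [map_add, add_pow_char_pow hq, map_add, map_add, map_pow j, map_pow j, map_pow π, map_pow π, ← hb, ← hc,
        ← pow_mul, ← pow_mul, ← pow_add, ← pow_add, add_comm m n]
  haveI : IsLocalRing (A' ⊗[A] B) := by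
    obtain ⟨Q0, hQ0⟩ := Ideal.exists_maximal (A' ⊗[A] B)
    refine IsLocalRing.of_unique_max_ideal ⟨Q0, hQ0, fun Q hQ => (hQ.eq_of_le hQ0.ne_top fun z hz => ?_)⟩
    obtain ⟨n, b, hb⟩ := hkey z
    have hmem : ∀ P : Ideal (A' ⊗[A] B), P.IsMaximal → z ^ q ^ n - j b ∈ P := (hπ _).1 (by rw [map_sub, map_pow, hb, sub_self])
    have hq0 : q ^ n ≠ 0 := pow_ne_zero _ (by rcases hq with rfl | ⟨hp, -⟩ <;> [exact one_ne_zero; exact hp.ne_zero])
    have h1 : j b ∈ Q := by
      have := Q.sub_mem (Q.pow_mem_of_mem hz _ (Nat.pos_of_ne_zero hq0)) (hmem Q hQ)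
      simpa using this
    have h2 : j b ∈ Q0 := (hQB Q0 hQ0).ge ((hQB Q hQ).le h1)
    refine hQ0.isPrime.mem_of_pow_mem (q ^ n) ?_
    simpa using Q0.add_mem (hmem Q0 hQ0) h2
  refine ⟨inferInstance, ⟨fun a ha => by_contra fun hn => ?_⟩⟩
  exact (hQA _ (IsLocalRing.maximalIdeal.isMaximal _)).ge hn ha

variable [Algebra.WeaklyEtale A B]

include A in
theorem diag_le (Q : Ideal (B ⊗[A] B)) [Q.IsPrime] : diag A B ≤ Q := by
  classical
  let p := Q.comap (algebraMap A (B ⊗[A] B))
  let Ω := AlgebraicClosure (FractionRing (A ⧸ p))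
  let A' := integralClosure (A ⧸ p) Ω
  haveI : FaithfulSMul (A ⧸ p) Ω := by
    rw [faithfulSMul_iff_algebraMap_injective, IsScalarTower.algebraMap_eq (A ⧸ p) (FractionRing (A ⧸ p)) Ω]
    exact (algebraMap (FractionRing (A ⧸ p)) Ω).injective.comp (IsFractionRing.injective (A ⧸ p) _)
  haveI : Algebra.IsAlgebraic (A ⧸ p) Ω :=
    (IsFractionRing.comap_isAlgebraic_iff (A := A ⧸ p) (K := FractionRing (A ⧸ p)) (C := Ω)).2 inferInstance
  haveI : IsFractionRing A' Ω := integralClosure.isFractionRing_of_algebraic (fun x hx => by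
    exact FaithfulSMul.algebraMap_injective (A ⧸ p) Ω (hx.trans (map_zero _).symm))
  haveI : Algebra.IsIntegral (A ⧸ p) A' := IsIntegralClosure.isIntegral_algebra (A ⧸ p) Ω
  haveI : Algebra.IsIntegral A (A ⧸ p) := Algebra.isIntegral_of_surjective Ideal.Quotient.mk_surjective
  haveI : IsScalarTower A (A ⧸ p) A' := IsScalarTower.of_algebraMap_eq fun _ => rfl
  haveI : Algebra.IsIntegral A A' := Algebra.IsIntegral.trans (A ⧸ p)
  haveI : IsIntegrallyClosed A' := by
    refine (isIntegrallyClosed_iff Ω).2 fun {x} hx => ?_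
    exact ⟨⟨x, isIntegral_trans (R := A ⧸ p) x hx⟩, rfl⟩
  haveI : IsLocalRing A' := Hensel.isLocalRing_of_isIntegral_domain A A'
  obtain ⟨hloc, hlocHom⟩ := isLocalRing_tensor (A := A) (B := B) A'
  haveI := hloc
  haveI := hlocHom
  have hbij := bijective_of_normal (A := A') (B := A' ⊗[A] B) (K := Ω)
  -- compare two maps into an algebraic closure
  let L := AlgebraicClosure (FractionRing ((B ⊗[A] B) ⧸ Q))
  let χ : B ⊗[A] B →ₐ[A] L := (IsScalarTower.toAlgHom A ((B ⊗[A] B) ⧸ Q) L).comp (Ideal.Quotient.mkₐ A Q)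
  have hkerA : RingHom.ker (algebraMap A L) = p := by
    rw [← χ.comp_algebraMap, ← RingHom.comap_ker]
    refine congrArg (Ideal.comap _) ?_
    have hinj : Function.Injective (algebraMap ((B ⊗[A] B) ⧸ Q) L) := by
      rw [IsScalarTower.algebraMap_eq _ (FractionRing ((B ⊗[A] B) ⧸ Q)) L]
      exact (algebraMap (FractionRing ((B ⊗[A] B) ⧸ Q)) L).injective.comp (IsFractionRing.injective _ _)
    exact (RingHom.ker_comp_of_injective _ hinj).trans Ideal.mk_ker
  let ι0 : A ⧸ p →ₐ[A] L := Ideal.Quotient.liftₐ p (Algebra.ofId A L) fun a ha => by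
    rw [← hkerA] at ha; exact ha
  have hι0 : Function.Injective ι0 := by
    rw [injective_iff_map_eq_zero]
    intro z hz
    obtain ⟨a, rfl⟩ := Ideal.Quotient.mk_surjective z
    rw [Ideal.Quotient.eq_zero_iff_mem, ← hkerA]
    exact hz
  let ι1 : FractionRing (A ⧸ p) →+* L := IsFractionRing.lift hι0
  letI : Algebra (FractionRing (A ⧸ p)) L := ι1.toAlgebra
  let Φ : Ω →ₐ[FractionRing (A ⧸ p)] L := IsAlgClosed.lift
  have hΦ : ∀ a : A, Φ (algebraMap A Ω a) = algebraMap A L a := fun a => by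
    rw [IsScalarTower.algebraMap_apply A (A ⧸ p) Ω, IsScalarTower.algebraMap_apply (A ⧸ p) (FractionRing (A ⧸ p)) Ω,
      AlgHom.commutes]
    exact (IsFractionRing.lift_algebraMap hι0 _).trans (ι0.commutes a)
  let ψ : A' →ₐ[A] L := { (Φ.toRingHom.comp (algebraMap A' Ω)) with commutes' := fun a => hΦ a }
  let h1 := χ.comp (Algebra.TensorProduct.includeLeft : B →ₐ[A] B ⊗[A] B)
  let h2 := χ.comp (Algebra.TensorProduct.includeRight : B →ₐ[A] B ⊗[A] B)
  have hh : h1 = h2 := AlgHom.ext fun b => by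
    obtain ⟨α, hα⟩ := hbij.2 ((1 : A') ⊗ₜ[A] b)
    have e : ∀ h : B →ₐ[A] L, h b = ψ α := fun h => by
      have := congrArg (Algebra.TensorProduct.lift ψ h (fun _ _ => .all _ _)) hα
      simpa [Algebra.TensorProduct.algebraMap_apply] using this.symm
    exact (e h1).trans (e h2).symm
  intro z hz
  have hkerχ : RingHom.ker χ.toRingHom = Q := by
    have hinj : Function.Injective (algebraMap ((B ⊗[A] B) ⧸ Q) L) := by
      rw [IsScalarTower.algebraMap_eq _ (FractionRing ((B ⊗[A] B) ⧸ Q)) L]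
      exact (algebraMap (FractionRing ((B ⊗[A] B) ⧸ Q)) L).injective.comp (IsFractionRing.injective _ _)
    exact (RingHom.ker_comp_of_injective _ hinj).trans Ideal.mk_ker
  rw [← hkerχ, RingHom.mem_ker]
  have : χ = h1.comp (Algebra.TensorProduct.lmul' A) := Algebra.TensorProduct.ext
    (AlgHom.ext fun b => by simp [h1]) (AlgHom.ext fun b => by
      simp only [AlgHom.comp_apply, AlgHom.restrictScalars_apply, Algebra.TensorProduct.includeRight_apply,
        Algebra.TensorProduct.lmul'_apply_tmul, one_mul]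
      exact (AlgHom.congr_fun hh b).symm)
  show χ z = 0
  rw [this, AlgHom.comp_apply, RingHom.mem_ker.1 hz, map_zero]

include A in
/-- Olivier's theorem -/
theorem bijective_algebraMap : Function.Bijective (algebraMap A B) := by
  haveI : Module.FaithfullyFlat A B := Module.FaithfullyFlat.of_flat_of_isLocalHom
  haveI := diag_pure (A := A) (B := B)
  haveI : (⊥ : Ideal (B ⊗[A] B)).Pure := Module.Flat.of_linearEquiv (Submodule.quotEquivOfEqBot ⊥ rfl)
  have hJ : diag A B = ⊥ := by
    refine Ideal.zeroLocus_inj_of_pure.1 ?_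
    rw [Set.eq_univ_of_forall (s := PrimeSpectrum.zeroLocus (R := B ⊗[A] B) ((diag A B : Ideal _) : Set (B ⊗[A] B)))
      fun Q => diag_le Q.asIdeal]
    exact (Set.eq_univ_of_forall fun Q : PrimeSpectrum (B ⊗[A] B) => bot_le (a := Q.asIdeal)).symm
  have hb : Function.Bijective ((Algebra.linearMap A B).lTensor B) := by
    refine ⟨?_, fun z => ?_⟩
    · intro x y hxy
      have h := congrArg (Algebra.TensorProduct.lmul' A (S := B)) hxy
      have e : ∀ x : B ⊗[A] A, Algebra.TensorProduct.lmul' A ((Algebra.linearMap A B).lTensor B x) = TensorProduct.rid A B x := fun x => by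
        induction x using TensorProduct.induction_on with
        | zero => simp
        | tmul b a => simp [Algebra.smul_def, mul_comm]
        | add u v hu hv => simp only [map_add, hu, hv]
      rw [e, e] at h
      exact (TensorProduct.rid A B).injective h
    · refine ⟨Algebra.TensorProduct.lmul' A z ⊗ₜ 1, ?_⟩
      have h0 : z - Algebra.TensorProduct.lmul' A z ⊗ₜ 1 ∈ diag A B := by simp [RingHom.mem_ker]
      rw [hJ, Ideal.mem_bot, sub_eq_zero] at h0
      conv_rhs => rw [h0]
      simp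
  exact (Module.FaithfullyFlat.lTensor_bijective_iff_bijective A B _).1 hb

end

end Groth.Agent.WEtLib
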