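import Groth.Agent.WEtLib.Basic
import Mathlib.RingTheory.Flat.Tensor
import Mathlib.RingTheory.Ideal.IdempotentFG
import Mathlib.RingTheory.Nilpotent.Lemmas

/-!
# Weakly étale algebras over von Neumann regular rings
-/

universe u

open scoped TensorProduct

namespace Groth.Agent.WEtLib

noncomputable section

/-- modules over von Neumann regular rings are flat -/
theorem flat_of_vnr {R : Type u} [CommRing R] (h : ∀ a : R, ∃ r, a = a * a * r)
    (N : Type u) [AddCommGroup N] [Module R N] : Module.Flat R N := by
  rw [Module.Flat.iff_rTensor_injective]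
  intro I hI
  have hid : IsIdempotentElem I := by
    refine le_antisymm Ideal.mul_le_right fun a ha => ?_
    obtain ⟨r, hr⟩ := h a
    rw [hr, mul_assoc]
    exact Ideal.mul_mem_mul ha (I.mul_mem_right r ha)
  obtain ⟨e, he, rfl⟩ := (Ideal.isIdempotentElem_iff_of_fg I hI).1 hid
  have hem : e ∈ (R ∙ e : Submodule R R) := Submodule.mem_span_singleton_self e
  have key : ∀ z : (R ∙ e : Submodule R R) ⊗[R] N,
      z = (⟨e, hem⟩ : (R ∙ e : Submodule R R)) ⊗ₜ TensorProduct.lid R N ((R ∙ e : Submodule R R).subtype.rTensor N z) := fun z => by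
    induction z using TensorProduct.induction_on with
    | zero => simp
    | tmul a x =>
      obtain ⟨c, hc⟩ := Submodule.mem_span_singleton.1 a.2
      simp only [LinearMap.rTensor_tmul, Submodule.subtype_apply, TensorProduct.lid_tmul]
      rw [← TensorProduct.smul_tmul]
      congr 1
      refine Subtype.ext ?_
      simp only [Submodule.coe_smul, smul_eq_mul, ← hc]
      rw [mul_assoc, he.eq]
    | add a b ha hb => rw [map_add, map_add, TensorProduct.tmul_add, ← ha, ← hb]
  intro z w hzw
  rw [key z, key w, hzw]

/-- weakly étale algebras over von Neumann regular rings are von Neumann regular -/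
theorem exists_mul_eq_of_vnr {R : Type u} [CommRing R] (h : ∀ a : R, ∃ r, a = a * a * r)
    {B : Type u} [CommRing B] [Algebra R B] [Algebra.WeaklyEtale R B] (b : B) : ∃ c, b = b * b * c := by
  have : (Ideal.span {b}).Pure := by
    have := flat_of_vnr h (B ⧸ Ideal.span {b})
    exact flat_of_flat (A := R) (B := B) _
  obtain ⟨y, hy, hay⟩ := Ideal.exists_eq_mul_of_pure (Ideal.mem_span_singleton_self b)
  obtain ⟨r, rfl⟩ := Ideal.mem_span_singleton'.1 hy
  exact ⟨r, hay.trans (by ring)⟩

theorem vnr_pi_field {ι : Type u} (F : ι → Type u) [∀ i, Field (F i)] (a : ∀ i, F i) :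
    ∃ r, a = a * a * r := by
  refine ⟨fun i => (a i)⁻¹, funext fun i => ?_⟩
  by_cases ha : a i = 0
  · simp [ha]
  · simp [mul_assoc, mul_inv_cancel₀ ha]

theorem isReduced_of_isReduced_base (A B : Type u) [CommRing A] [CommRing B] [Algebra A B] [IsReduced A]
    [Algebra.WeaklyEtale A B] : IsReduced B := by
  let P : Type u := ∀ p : PrimeSpectrum A, p.asIdeal.ResidueField
  have hinj : Function.Injective (algebraMap A P) := (injective_iff_map_eq_zero _).2 fun a ha => by
    refine IsReduced.eq_zero a (nilpotent_iff_mem_prime.2 fun J hJ => ?_)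
    exact Ideal.algebraMap_residueField_eq_zero.1 (congrFun ha ⟨J, hJ⟩)
  have hred : IsReduced (P ⊗[A] B) := isReduced_of_forall_exists fun b =>
    exists_mul_eq_of_vnr (R := P) (fun a => vnr_pi_field _ a) b
  refine isReduced_of_injective (Algebra.TensorProduct.includeRight : B →ₐ[A] P ⊗[A] B).toRingHom ?_
  exact Algebra.TensorProduct.includeRight_injective hinj

end

end Groth.Agent.WEtLib
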