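import Groth.Agent.WEtLib.Basic
import Mathlib.FieldTheory.RatFunc.AsPolynomial
import Mathlib.FieldTheory.IsAlgClosed.Basic

/-!
# Weakly etale algebras over fields
-/

universe u

open TensorProduct Polynomial

namespace Groth.Agent.WEtLib

noncomputable section

variable {K : Type u} [Field K]

theorem weaklyEtale_quotient {R : Type u} [CommRing R] [Algebra K R] [Algebra.WeaklyEtale K R] (I : Ideal R) :
    Algebra.WeaklyEtale K (R ⧸ I) := by
  haveI : Algebra.WeaklyEtale R (R ⧸ I) :=
    { flat := flat_of_field (K := K) _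
      flat_lmul' := RingHom.Flat.of_bijective (by
        refine ⟨fun x y hxy => ?_, fun b => ⟨b ⊗ₜ 1, by simp⟩⟩
        have key : ∀ z : (R ⧸ I) ⊗[R] (R ⧸ I), z = Algebra.TensorProduct.lmul' R z ⊗ₜ 1 := fun z => by
          induction z using TensorProduct.induction_on with
          | zero => simp
          | tmul a b =>
            obtain ⟨b, rfl⟩ := Ideal.Quotient.mk_surjective b
            rw [Algebra.TensorProduct.lmul'_apply_tmul,
              show (Ideal.Quotient.mk I b : R ⧸ I) = b • (1 : R ⧸ I) by
                rw [Algebra.smul_def, mul_one]; rfl,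
              TensorProduct.tmul_smul, TensorProduct.smul_tmul', Algebra.smul_def, Algebra.smul_def, mul_one, mul_comm]
          | add a b ha hb => rw [map_add, TensorProduct.add_tmul, ← ha, ← hb]
        rw [key x, key y]
        exact congrArg (· ⊗ₜ[R] (1 : R ⧸ I)) hxy) }
  exact Algebra.WeaklyEtale.trans K R (R ⧸ I)

section transcendental

variable {L : Type u} [Field L] [Algebra K L]

theorem algebraic_of_weaklyEtale [Algebra.WeaklyEtale K L] (x : L) : IsAlgebraic K x := by
  classical
  by_contra hx
  have hx' : Transcendental K x := hx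
  have hinj : Function.Injective (Polynomial.aeval (R := K) x) := transcendental_iff_injective.1 hx'
  let i : RatFunc K →ₐ[K] L := RatFunc.liftAlgHom (Polynomial.aeval x)
    (nonZeroDivisors_le_comap_nonZeroDivisors_of_injective _ hinj)
  letI algFL : Algebra (RatFunc K) L := i.toRingHom.toAlgebra
  haveI : IsScalarTower K (RatFunc K) L := IsScalarTower.of_algebraMap_eq fun a => (i.commutes a).symm
  -- a linear retraction
  have hinjF : Function.Injective (Algebra.linearMap (RatFunc K) L) := (algebraMap (RatFunc K) L).injective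
  obtain ⟨π, hπ⟩ := (Algebra.linearMap (RatFunc K) L).exists_leftInverse_of_injective (LinearMap.ker_eq_bot.2 hinjF)
  let inc : L ⊗[K] RatFunc K →ₐ[K] L ⊗[K] L := Algebra.TensorProduct.map (AlgHom.id K L) i
  let rPr : L ⊗[K] L →ₗ[K] L ⊗[K] RatFunc K := TensorProduct.map LinearMap.id (π.restrictScalars K)
  have hPi : ∀ s z, rPr (inc s * z) = s * rPr z := fun s z => by
    induction z using TensorProduct.induction_on with
    | zero => simp
    | add a b ha hb => simp only [mul_add, map_add, ha, hb]
    | tmul a b =>
      induction s using TensorProduct.induction_on with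
      | zero => simp
      | add c d hc hd => simp only [add_mul, map_add, hc, hd]
      | tmul c d =>
        simp only [inc, rPr, Algebra.TensorProduct.map_tmul, AlgHom.id_apply, Algebra.TensorProduct.tmul_mul_tmul,
          TensorProduct.map_tmul, LinearMap.id_apply, LinearMap.coe_restrictScalars]
        rw [show i d * b = d • b from (Algebra.smul_def d b).symm, map_smul, smul_eq_mul]
  have hPi1 : ∀ s, rPr (inc s) = s := fun s => by
    have h1 := hPi s 1
    rw [mul_one] at h1
    rw [h1, show rPr 1 = 1 from ?_, mul_one]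
    simp only [rPr, Algebra.TensorProduct.one_def, TensorProduct.map_tmul, LinearMap.id_apply, LinearMap.coe_restrictScalars]
    have := LinearMap.congr_fun hπ 1
    rw [LinearMap.comp_apply, LinearMap.id_apply, Algebra.linearMap_apply, map_one] at this
    rw [this]
  let δ : L ⊗[K] RatFunc K := x ⊗ₜ[K] (1 : RatFunc K) - 1 ⊗ₜ[K] RatFunc.X
  obtain ⟨r0, hr0⟩ := exists_mul_eq (K := L) (inc δ)
  have hδ : δ = δ * δ * rPr r0 := by
    have h2 := congrArg rPr hr0
    rwa [← map_mul, hPi1, hPi] at h2
  -- evaluate in `L(X)`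
  let j : RatFunc K →ₐ[K] RatFunc L := RatFunc.liftAlgHom
    ((IsScalarTower.toAlgHom K L[X] (RatFunc L)).comp (Polynomial.mapAlgHom (Algebra.ofId K L)))
    (nonZeroDivisors_le_comap_nonZeroDivisors_of_injective _
      ((RatFunc.algebraMap_injective L).comp (Polynomial.map_injective _ (algebraMap K L).injective)))
  let φ : L ⊗[K] RatFunc K →ₐ[K] RatFunc L :=
    Algebra.TensorProduct.lift (IsScalarTower.toAlgHom K L (RatFunc L)) j (fun _ _ => .all _ _)
  have hj : ∀ p : K[X], j (algebraMap K[X] (RatFunc K) p) = algebraMap L[X] (RatFunc L) (p.map (algebraMap K L)) := fun p => by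
    simp [j, RatFunc.liftAlgHom_apply, RatFunc.num_algebraMap, RatFunc.denom_algebraMap]
  have himage : ∀ z, ∃ s : K[X], s ≠ 0 ∧ ∃ f : L[X],
      φ z * algebraMap L[X] (RatFunc L) (s.map (algebraMap K L)) = algebraMap L[X] (RatFunc L) f := fun z => by
    induction z using TensorProduct.induction_on with
    | zero => exact ⟨1, one_ne_zero, 0, by simp⟩
    | tmul l q =>
      refine ⟨q.denom, RatFunc.denom_ne_zero q, Polynomial.C l * q.num.map (algebraMap K L), ?_⟩
      simp only [φ, Algebra.TensorProduct.lift_tmul]
      rw [← hj, mul_assoc, ← map_mul j, map_mul (algebraMap L[X] (RatFunc L)), ← hj]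
      refine congr_arg₂ (· * ·) ?_ (congrArg j ?_)
      · simp [IsScalarTower.algebraMap_apply L L[X] (RatFunc L)]
      · exact (div_eq_iff (RatFunc.algebraMap_ne_zero (RatFunc.denom_ne_zero q))).1 (RatFunc.num_div_denom q) |>.symm
    | add a b ha hb =>
      obtain ⟨s, hs, f, hf⟩ := ha
      obtain ⟨t, ht, g, hg⟩ := hb
      refine ⟨s * t, mul_ne_zero hs ht, f * t.map (algebraMap K L) + g * s.map (algebraMap K L), ?_⟩
      rw [Polynomial.map_mul, map_mul, map_add, map_add, map_mul, map_mul, ← hf, ← hg]
      ring
  have hφδ : φ δ = algebraMap L[X] (RatFunc L) (Polynomial.C x - Polynomial.X) := by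
    simp only [φ, δ, map_sub, Algebra.TensorProduct.lift_tmul, map_one, mul_one, one_mul,
      IsScalarTower.toAlgHom_apply, IsScalarTower.algebraMap_apply L L[X] (RatFunc L)]
    rw [← RatFunc.algebraMap_X, hj, Polynomial.map_X]
    rfl
  obtain ⟨s, hs, f, hf⟩ := himage (rPr r0)
  have hne : φ δ ≠ 0 := by
    rw [hφδ]
    exact RatFunc.algebraMap_ne_zero (sub_ne_zero.2 (Polynomial.X_ne_C x).symm)
  have h3 : φ δ * φ (rPr r0) = 1 := by
    refine mul_left_cancel₀ hne ?_
    rw [← mul_assoc, ← map_mul, ← map_mul, ← hδ, mul_one]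
  have h4 : s.map (algebraMap K L) = (Polynomial.C x - Polynomial.X) * f := by
    refine RatFunc.algebraMap_injective L ?_
    rw [map_mul, ← hf, ← hφδ, ← mul_assoc, h3, one_mul]
  have h5 := congrArg (Polynomial.eval x) h4
  rw [Polynomial.eval_mul, Polynomial.eval_sub, Polynomial.eval_C, Polynomial.eval_X, sub_self, zero_mul,
    Polynomial.eval_map, ← Polynomial.aeval_def] at h5
  exact hs (hinj (h5.trans (map_zero _).symm))

end transcendental

theorem algebraMap_bijective_of_isAlgClosed [IsAlgClosed K] {R : Type u} [CommRing R] [Nontrivial R] [Algebra K R]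
    [Algebra.WeaklyEtale K R] (hid : ∀ e : R, IsIdempotentElem e → e = 0 ∨ e = 1) :
    Function.Bijective (algebraMap K R) := by
  letI := (isField_of_forall_exists (exists_mul_eq (K := K)) hid).toField
  haveI : Algebra.IsAlgebraic K R := ⟨algebraic_of_weaklyEtale (K := K) (L := R)⟩
  exact IsAlgClosed.algebraMap_bijective_of_isIntegral (k := K) (K := R)

end

end Groth.Agent.WEtLib
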