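import Groth.Agent.WEtLib.Field
import Mathlib.RingTheory.Valuation.LocalSubring
import Mathlib.RingTheory.Localization.BaseChange
import Mathlib.LinearAlgebra.TensorProduct.Quotient
import Mathlib.RingTheory.Flat.FaithfullyFlat.Algebra

/-!
# Weakly etale algebras over normal domains: idempotents of the generic fibre
-/

universe u

open TensorProduct

namespace Groth.Agent.WEtLib

noncomputable section

/-- finitely generated ideals are principal, generated by an element with idempotent support -/
def GCDSplit (R : Type u) [CommRing R] : Prop :=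
  ∀ (n : ℕ) (r : Fin n → R), ∃ (g e : R) (ρ σ : Fin n → R),
    (∀ i, r i = g * ρ i) ∧ ∑ i, σ i * r i = g ∧ ∑ i, σ i * ρ i = e ∧ e * g = g ∧
      (∀ i, e * ρ i = ρ i) ∧ ∀ a, g * a = 0 → e * a = 0

theorem gcdSplit_pi {ι : Type u} (V : ι → Type u) [∀ i, CommRing (V i)] [∀ i, IsDomain (V i)]
    [∀ i, ValuationRing (V i)] : GCDSplit (∀ i, V i) := by
  classical
  intro n r
  have h : ∀ j, ∃ (g e : V j) (ρ σ : Fin n → V j), (∀ i, r i j = g * ρ i) ∧ ∑ i, σ i * r i j = g ∧
      ∑ i, σ i * ρ i = e ∧ e * g = g ∧ (∀ i, e * ρ i = ρ i) ∧ ∀ a, g * a = 0 → e * a = 0 := by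
    intro j
    by_cases hall : ∀ i, r i j = 0
    · exact ⟨0, 0, 0, 0, fun i => by simp [hall i], by simp, by simp, by simp, by simp, by simp⟩
    · push Not at hall
      obtain ⟨i1, hi1⟩ := hall
      have hmin : ∀ s : Finset (Fin n), i1 ∈ s → ∃ i0 ∈ s, ∀ i ∈ s, r i0 j ∣ r i j := by
        intro s
        induction s using Finset.induction_on with
        | empty => simp
        | insert i s _ ih =>
          intro hmem
          by_cases hs : i1 ∈ s
          · obtain ⟨i0, h0, hd⟩ := ih hs
            rcases ValuationRing.dvd_total (r i0 j) (r i j) with h | h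
            · exact ⟨i0, Finset.mem_insert_of_mem h0, fun k hk => by
                rcases Finset.mem_insert.1 hk with rfl | hk
                · exact h
                · exact hd k hk⟩
            · exact ⟨i, Finset.mem_insert_self _ _, fun k hk => by
                rcases Finset.mem_insert.1 hk with rfl | hk
                · exact dvd_rfl
                · exact h.trans (hd k hk)⟩
          · have : i = i1 := ((Finset.mem_insert.1 hmem).resolve_right hs).symm
            subst this
            rcases s.eq_empty_or_nonempty with rfl | hne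
            · exact ⟨i, Finset.mem_insert_self _ _, by simp⟩
            · have hne' : ∀ t : Finset (Fin n), t.Nonempty → ∃ i0 ∈ t, ∀ k ∈ t, r i0 j ∣ r k j := by
                intro t ht
                induction ht using Finset.Nonempty.cons_induction with
                | singleton a => exact ⟨a, Finset.mem_singleton_self a, by simp⟩
                | cons a t ha _ ih' =>
                  obtain ⟨i0, h0, hd⟩ := ih'
                  rcases ValuationRing.dvd_total (r i0 j) (r a j) with h | h
                  · exact ⟨i0, Finset.mem_cons_of_mem h0, fun k hk => by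
                      rcases Finset.mem_cons.1 hk with rfl | hk
                      · exact h
                      · exact hd k hk⟩
                  · exact ⟨a, Finset.mem_cons_self _ _, fun k hk => by
                      rcases Finset.mem_cons.1 hk with rfl | hk
                      · exact dvd_rfl
                      · exact h.trans (hd k hk)⟩
              exact hne' _ (Finset.insert_nonempty i s)
      obtain ⟨i0, -, hd⟩ := hmin Finset.univ (Finset.mem_univ _)
      choose ρ hρ using fun i => hd i (Finset.mem_univ _)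
      have hg : r i0 j ≠ 0 := fun h0 => hi1 (by rw [hρ i1, h0, zero_mul])
      have h1 : ρ i0 = 1 := mul_left_cancel₀ hg (by rw [← hρ i0, mul_one])
      refine ⟨r i0 j, 1, ρ, fun i => if i = i0 then 1 else 0, hρ, by simp, by simp [h1], one_mul _,
        fun _ => one_mul _, fun a ha => ?_⟩
      rw [one_mul]
      exact (mul_eq_zero.1 ha).resolve_left hg
  choose g e ρ σ h1 h2 h3 h4 h5 h6 using h
  exact ⟨g, e, fun i j => ρ j i, fun i j => σ j i, fun i => funext fun j => h1 j i,
    funext fun j => by rw [Finset.sum_apply]; exact h2 j, funext fun j => by rw [Finset.sum_apply]; exact h3 j,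
    funext h4, fun i => funext fun j => h5 j i, fun a ha => funext fun j => h6 j (a j) (congrFun ha j)⟩

/-- submodules of flat modules are flat -/
theorem GCDSplit.flat_submodule {R : Type u} [CommRing R] (hR : GCDSplit R) {M : Type u} [AddCommGroup M]
    [Module R M] [Module.Flat R M] (N : Submodule R M) : Module.Flat R N := by
  classical
  refine Module.Flat.of_forall_isTrivialRelation fun {l f x} hfx => ?_
  obtain ⟨g, e, ρ, σ, hρ, hσ, he, heg, heρ, hann⟩ := hR l f
  let w : N := ∑ i, ρ i • x i
  have hg : g • (w : M) = 0 := by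
    rw [← Submodule.coe_smul, show g • w = 0 by
      rw [← hfx, Finset.smul_sum]
      exact Finset.sum_congr rfl fun i _ => by rw [smul_smul, ← hρ i]]
    rfl
  have hew : e • (w : M) = 0 := by
    obtain ⟨q, a, y, hy, ha⟩ := Module.Flat.isTrivialRelation_of_sum_smul_eq_zero
      (f := fun _ : Fin 1 => g) (x := fun _ => (w : M)) (by simpa using hg)
    rw [show (w : M) = ∑ r, a 0 r • y r from hy 0, Finset.smul_sum]
    refine Finset.sum_eq_zero fun r _ => ?_
    rw [smul_smul, hann (a 0 r) (by simpa using ha r), zero_smul]
  have hw : w = 0 := by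
    refine Subtype.ext (Eq.trans ?_ hew)
    rw [← Submodule.coe_smul]
    refine congrArg Subtype.val ?_
    simp only [w, Finset.smul_sum, smul_smul, heρ]
  refine ⟨l, fun i k => (if i = k then 1 else 0) - σ i * ρ k, x, fun i => ?_, fun k => ?_⟩
  · simp only [sub_smul, Finset.sum_sub_distrib, ite_smul, one_smul, zero_smul, Finset.sum_ite_eq,
      Finset.mem_univ, if_true, mul_smul, ← Finset.smul_sum]
    rw [show (∑ k, ρ k • x k) = 0 from hw, smul_zero, sub_zero]
  · simp only [mul_sub, Finset.sum_sub_distrib, mul_ite, mul_one, mul_zero, Finset.sum_ite_eq',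
      Finset.mem_univ, if_true]
    rw [hρ k, sub_eq_zero, ← hσ, Finset.sum_mul]
    refine Finset.sum_congr rfl fun i _ => by ring

/-- in a weakly etale algebra over such a ring, `b ^ 2 = s b` forces `s ∣ b` -/
theorem GCDSplit.dvd_of_sq_eq {R B : Type u} [CommRing R] [CommRing B] [Algebra R B] [Algebra.WeaklyEtale R B]
    (hR : GCDSplit R) (b c : B) (hb : b * b = c * b) : ∃ z, b = c * z := by
  haveI : Module.Flat R (Ideal.span {b}) := hR.flat_submodule ((Ideal.span {b}).restrictScalars R)
  haveI : Module.Flat B (Ideal.span {b}) := flat_of_flat (A := R) _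
  obtain ⟨q, a, y, hy, ha⟩ := Module.Flat.isTrivialRelation_of_sum_smul_eq_zero
    (R := B) (f := fun _ : Fin 1 => b - c) (x := fun _ => (⟨b, Ideal.mem_span_singleton_self b⟩ : Ideal.span {b}))
    (by
      simp only [Finset.univ_unique, Finset.sum_singleton]
      exact Subtype.ext (show (b - c) * b = 0 by rw [sub_mul, hb, sub_self]))
  choose d hd using fun r => Ideal.mem_span_singleton'.1 (y r).2
  have hb' : b = (∑ r, a 0 r * d r) * b := by
    refine (congrArg Subtype.val (hy 0)).trans ?_
    rw [Finset.sum_mul, AddSubmonoidClass.coe_finset_sum]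
    refine Finset.sum_congr rfl fun r _ => ?_
    rw [Submodule.coe_smul, smul_eq_mul, mul_assoc, hd]
  refine ⟨∑ r, a 0 r * d r, hb'.trans ?_⟩
  rw [Finset.sum_mul, Finset.mul_sum]
  refine Finset.sum_congr rfl fun r _ => ?_
  have := ha r
  simp only [Finset.univ_unique, Finset.sum_singleton, Fin.default_eq_zero] at this
  linear_combination (d r) * this

section normal

variable {A B K : Type u} [CommRing A] [CommRing B] [Algebra A B] [Field K] [Algebra A K] [IsFractionRing A K]
  [IsDomain A] [IsIntegrallyClosed A] [Algebra.WeaklyEtale A B]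

include K in
/-- over a normal domain, `b ^ 2 = s b` forces `s ∣ b` -/
theorem dvd_of_sq_eq_of_normal {s : A} (hs : s ≠ 0) {b : B} (hb : b * b = algebraMap A B s * b) :
    ∃ z, b = algebraMap A B s * z := by
  classical
  let ι : Type u := {V : ValuationSubring K // ∀ a : A, algebraMap A K a ∈ V}
  let R : Type u := ∀ V : ι, (V.1 : Type u)
  let f : A →+* R := Pi.ringHom fun V => (algebraMap A K).codRestrict V.1.toSubring V.2
  letI : Algebra A R := f.toAlgebra
  have hR : GCDSplit R := gcdSplit_pi (fun V : ι => (V.1 : Type u))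
  let sR : R := algebraMap A R s
  -- the comparison mod `s`
  let q : A →ₗ[A] R ⧸ (Ideal.span {sR}).restrictScalars A :=
    (Submodule.mkQ _).comp (Algebra.linearMap A R)
  let g : (A ⧸ Ideal.span {s}) →ₗ[A] R ⧸ (Ideal.span {sR}).restrictScalars A :=
    Submodule.liftQ _ q (fun a ha => by
      obtain ⟨d, rfl⟩ := Ideal.mem_span_singleton'.1 ha
      refine (Submodule.Quotient.mk_eq_zero _).2 ?_
      show algebraMap A R (d * s) ∈ Ideal.span {sR}
      rw [map_mul]
      exact Ideal.mul_mem_left _ _ (Ideal.mem_span_singleton_self sR))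
  have hg : Function.Injective g := by
    rw [← LinearMap.ker_eq_bot, Submodule.eq_bot_iff]
    intro z hz
    obtain ⟨a, rfl⟩ := Submodule.Quotient.mk_surjective _ z
    have hmem : algebraMap A R a ∈ Ideal.span {sR} := (Submodule.Quotient.mk_eq_zero _).1 (LinearMap.mem_ker.1 hz)
    obtain ⟨d, hd⟩ := Ideal.mem_span_singleton'.1 hmem
    have hsK : algebraMap A K s ≠ 0 := fun h => hs (IsFractionRing.injective A K (h.trans (map_zero _).symm))
    have hV : ∀ V : ι, algebraMap A K a / algebraMap A K s ∈ V.1 := fun V => by
      have : (d V : K) * algebraMap A K s = algebraMap A K a := congrArg (fun r : R => ((r V : V.1) : K)) hd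
      rw [← this, mul_div_cancel_right₀ _ hsK]
      exact (d V).2
    have hint : algebraMap A K a / algebraMap A K s ∈ (algebraMap A K).range := by
      by_contra hx
      haveI : IsIntegrallyClosedIn (algebraMap A K).range K := by
        rw [Subring.isIntegrallyClosedIn_iff]
        intro x hx'
        obtain ⟨p, hp, hpx⟩ := hx'
        obtain ⟨p', hp', -, hpm⟩ := Polynomial.lifts_and_natDegree_eq_and_monic
          ((Polynomial.mem_lifts p).2 (Polynomial.map_surjective _ (algebraMap A K).rangeRestrict_surjective p)) hp
        refine IsIntegrallyClosed.isIntegral_iff.1 ⟨p', hpm, ?_⟩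
        rw [← hp', Polynomial.eval₂_map] at hpx
        exact hpx
      obtain ⟨V, hVle, hxV⟩ := Subring.exists_le_valuationSubring_of_isIntegrallyClosedIn hx
      exact hxV (hV ⟨V, fun a => hVle ⟨a, rfl⟩⟩)
    obtain ⟨d', hd'⟩ := hint
    refine (Submodule.Quotient.mk_eq_zero _).2 (Ideal.mem_span_singleton'.2 ⟨d', IsFractionRing.injective A K ?_⟩)
    rw [map_mul, hd', div_mul_cancel₀ _ hsK]
  -- the element dies after base change to the product
  obtain ⟨z, hz⟩ := hR.dvd_of_sq_eq (B := R ⊗[A] B) (1 ⊗ₜ b) (sR ⊗ₜ 1) (by
    rw [Algebra.TensorProduct.tmul_mul_tmul, Algebra.TensorProduct.tmul_mul_tmul, one_mul, mul_one, one_mul, hb,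
      ← Algebra.smul_def, TensorProduct.tmul_smul, TensorProduct.smul_tmul', Algebra.smul_def, mul_one])
  have h0 : LinearMap.rTensor B g (Submodule.Quotient.mk 1 ⊗ₜ b) = 0 := by
    rw [LinearMap.rTensor_tmul]
    have e : g (Submodule.Quotient.mk 1) ⊗ₜ[A] b =
        LinearMap.rTensor B (Submodule.mkQ ((Ideal.span {sR}).restrictScalars A)) ((sR ⊗ₜ 1) * z) := by
      rw [← hz, LinearMap.rTensor_tmul]
      simp only [g, q, Submodule.liftQ_apply, LinearMap.comp_apply, Algebra.linearMap_apply, map_one]
    rw [e]
    clear hz e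
    induction z using TensorProduct.induction_on with
    | zero => simp
    | tmul r c =>
      rw [Algebra.TensorProduct.tmul_mul_tmul, LinearMap.rTensor_tmul, Submodule.mkQ_apply]
      exact (congrArg (fun w => w ⊗ₜ[A] (1 * c)) ((Submodule.Quotient.mk_eq_zero ((Ideal.span {sR}).restrictScalars A)).2
        (show sR * r ∈ Ideal.span {sR} from Ideal.mul_mem_right _ _ (Ideal.mem_span_singleton_self sR)))).trans
        (TensorProduct.zero_tmul _ _)
    | add a c ha hc =>
      rw [mul_add, map_add]
      exact (congrArg₂ (· + ·) ha hc).trans (add_zero _)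
  have h1 := Module.Flat.rTensor_preserves_injective_linearMap (M := B) g hg (h0.trans (map_zero _).symm)
  have h2 := congrArg (TensorProduct.quotTensorEquivQuotSMul B (Ideal.span {s})) h1
  rw [map_zero, show (Submodule.Quotient.mk (1 : A) : A ⧸ Ideal.span {s}) = Ideal.Quotient.mk _ 1 from rfl,
    TensorProduct.quotTensorEquivQuotSMul_mk_tmul, one_smul, Submodule.Quotient.mk_eq_zero] at h2
  rw [Ideal.submodule_span_eq.symm.trans rfl, Submodule.ideal_span_singleton_smul] at h2
  obtain ⟨c, -, hc⟩ := (Submodule.mem_smul_pointwise_iff_exists _ _ _).1 h2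
  exact ⟨c, hc.symm.trans (Algebra.smul_def s c)⟩

/-- weakly etale local algebras over normal local domains with algebraically closed fraction field -/
theorem bijective_of_normal [IsLocalRing A] [IsLocalRing B] [IsLocalHom (algebraMap A B)] [IsAlgClosed K] :
    Function.Bijective (algebraMap A B) := by
  haveI : Module.FaithfullyFlat A B := Module.FaithfullyFlat.of_flat_of_isLocalHom
  have hinjAB : Function.Injective (algebraMap A B) := FaithfulSMul.algebraMap_injective A B
  let BK := K ⊗[A] B
  let j : B →ₐ[A] BK := Algebra.TensorProduct.includeRight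
  have hj : Function.Injective j := Algebra.TensorProduct.includeRight_injective (IsFractionRing.injective A K)
  have hsurj : ∀ z : BK, ∃ (s : A) (b : B), s ≠ 0 ∧ algebraMap A BK s * z = j b := fun z => by
    induction z using TensorProduct.induction_on with
    | zero => exact ⟨1, 0, one_ne_zero, by simp⟩
    | tmul k b =>
      obtain ⟨⟨a, s⟩, hk⟩ := IsLocalization.surj (nonZeroDivisors A) k
      refine ⟨s, a • b, nonZeroDivisors.ne_zero s.2, ?_⟩
      show _ = (1 : K) ⊗ₜ[A] (a • b)
      rw [Algebra.TensorProduct.algebraMap_apply, Algebra.TensorProduct.tmul_mul_tmul, one_mul, TensorProduct.tmul_smul,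
        TensorProduct.smul_tmul', Algebra.smul_def a, mul_one, mul_comm, hk]
    | add x y hx hy =>
      obtain ⟨s, b, hs, hb⟩ := hx
      obtain ⟨t, c, ht, hc⟩ := hy
      refine ⟨s * t, algebraMap A B t * b + algebraMap A B s * c, mul_ne_zero hs ht, ?_⟩
      rw [map_add, map_mul, map_mul j, AlgHom.commutes, ← hb, map_mul j, AlgHom.commutes, ← hc]
      ring
  haveI : Nontrivial BK := hj.nontrivial
  have hid : ∀ e : BK, IsIdempotentElem e → e = 0 ∨ e = 1 := fun e he => by
    obtain ⟨s, b, hs, hb⟩ := hsurj e
    have hb2 : b * b = algebraMap A B s * b := hj (by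
      rw [map_mul, map_mul, AlgHom.commutes, ← hb]
      calc algebraMap A BK s * e * (algebraMap A BK s * e) = algebraMap A BK s * (algebraMap A BK s * (e * e)) := by ring
        _ = _ := by rw [he.eq])
    obtain ⟨c, rfl⟩ := dvd_of_sq_eq_of_normal (K := K) hs hb2
    have hu : IsUnit (algebraMap A BK s) := by
      rw [IsScalarTower.algebraMap_apply A K BK]
      exact (isUnit_iff_ne_zero.2 fun h => hs (IsFractionRing.injective A K (h.trans (map_zero _).symm))).map _
    have hec : e = j c := by
      refine hu.mul_left_cancel ?_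
      rw [hb, map_mul, AlgHom.commutes]
    rcases (IsLocalRing.isUnit_or_isUnit_one_sub_self c) with hu' | hu'
    · refine Or.inr ?_
      have : c * c = c := hj (by rw [map_mul, ← hec]; exact he)
      rw [hec, hu'.mul_left_cancel (this.trans (mul_one c).symm), map_one]
    · refine Or.inl ?_
      have : c * c = c := hj (by rw [map_mul, ← hec]; exact he)
      rw [hec, (hu'.mul_right_eq_zero.1 (by rw [sub_mul, one_mul, this, sub_self]) : c = 0), map_zero]
  have hbij := algebraMap_bijective_of_isAlgClosed (K := K) (R := BK) hid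
  refine ⟨hinjAB, fun b => ?_⟩
  obtain ⟨k, hk⟩ := hbij.2 (j b)
  obtain ⟨⟨a, s⟩, hks⟩ := IsLocalization.surj (nonZeroDivisors A) k
  have hsb : algebraMap A B a = algebraMap A B (s : A) * b := hj (by
    rw [map_mul, AlgHom.commutes, AlgHom.commutes, ← hk, IsScalarTower.algebraMap_apply A K BK a, ← hks, map_mul,
      IsScalarTower.algebraMap_apply A K BK (s : A)]
    ring)
  have ha : a ∈ Ideal.span {(s : A)} := by
    rw [← Ideal.comap_map_eq_self_of_faithfullyFlat (B := B) (Ideal.span {(s : A)}), Ideal.mem_comap, hsb]
    exact Ideal.mul_mem_right _ _ (Ideal.mem_map_of_mem _ (Ideal.mem_span_singleton_self _))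
  obtain ⟨d, rfl⟩ := Ideal.mem_span_singleton'.1 ha
  refine ⟨d, hj ?_⟩
  have hu : IsUnit (algebraMap A BK (s : A)) := by
    rw [IsScalarTower.algebraMap_apply A K BK]
    exact (IsLocalization.map_units K s).map _
  refine hu.mul_left_cancel ?_
  have := congrArg j hsb
  rw [map_mul (algebraMap A B), map_mul, map_mul, AlgHom.commutes, AlgHom.commutes] at this
  rw [AlgHom.commutes]
  linear_combination this

end normal

end

end Groth.Agent.WEtLib
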